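import Cfsg.Agent.Lib.Schmidt4395.ModIso

/-!
An automorphism `γ` of a `p`-group `A` with `γ ^ q = 1`, `γ ≠ 1`, such that every `γ`-invariant
proper subgroup is fixed pointwise, gives (up to replacing `γ` by a power) an `SData`.
-/

set_option autoImplicit false

namespace Cfsg.Agent.Lib.Schmidt4395

open scoped commutatorElement

universe u

/-- Hypotheses on an automorphism. -/
structure GoodAut (q : ℕ) (A : Type u) [Group A] (γ : MulAut A) : Prop where
  pow : γ ^ q = 1
  ne : γ ≠ 1
  inv : ∀ U : Subgroup A, U ≠ ⊤ → (∀ u ∈ U, γ u ∈ U) → ∀ u ∈ U, γ u = u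

variable {p q : ℕ} [hp : Fact p.Prime] [hq : Fact q.Prime]
variable {A : Type u} [Group A] {γ : MulAut A}

/-- The fixed points of an automorphism. -/
def fixSubgroup (γ : MulAut A) : Subgroup A where
  carrier := {u | γ u = u}
  mul_mem' := by
    intro a b ha hb
    change γ (a * b) = a * b
    have ha' : γ a = a := ha
    have hb' : γ b = b := hb
    rw [map_mul, ha', hb']
  one_mem' := map_one γ
  inv_mem' := by
    intro a ha
    change γ a⁻¹ = a⁻¹
    have ha' : γ a = a := ha
    rw [map_inv, ha']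

theorem mem_fixSubgroup {u : A} : u ∈ fixSubgroup γ ↔ γ u = u := Iff.rfl

theorem exists_ne_of_ne (hγ : γ ≠ 1) : ∃ v, γ v ≠ v := by
  by_contra h
  push Not at h
  exact hγ (MulEquiv.ext h)

theorem eq_one_of_coprime_pow [Finite A] (hpq : p ≠ q) (hA : IsPGroup p A) (u : A) (h : u ^ q = 1) :
    u = 1 := by
  obtain ⟨m, hm⟩ := IsPGroup.iff_card.mp hA
  have h1 : orderOf u ∣ q := orderOf_dvd_of_pow_eq_one h
  have h2 : orderOf u ∣ p ^ m := by
    rw [← hm]
    exact orderOf_dvd_natCard u
  have h3 : Nat.Coprime q (p ^ m) :=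
    Nat.Coprime.pow_right _ ((Nat.coprime_primes hq.out hp.out).mpr hpq.symm)
  exact orderOf_eq_one_iff.mp (Nat.eq_one_of_dvd_coprimes h3 h1 h2)

theorem GoodAut.gen [Finite A] (hpq : p ≠ q) (hA : IsPGroup p A) (h : GoodAut q A γ) (S : Subgroup A)
    (hS : ∀ v, v⁻¹ * γ v ∈ S) : S = ⊤ := by
  let T : Subgroup A := Subgroup.closure (Set.range fun v => v⁻¹ * γ v)
  have hTS : T ≤ S := by
    rw [Subgroup.closure_le]
    rintro _ ⟨v, rfl⟩
    exact hS v
  have hmem : ∀ v, v⁻¹ * γ v ∈ T := fun v => Subgroup.subset_closure ⟨v, rfl⟩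
  have hinv : ∀ u ∈ T, γ u ∈ T := by
    intro u hu
    induction hu using Subgroup.closure_induction with
    | mem x hx =>
      obtain ⟨v, rfl⟩ := hx
      have : γ (v⁻¹ * γ v) = (γ v)⁻¹ * γ (γ v) := by rw [map_mul, map_inv]
      rw [this]
      exact hmem _
    | one => rw [map_one]; exact T.one_mem
    | mul x y _ _ hx hy => rw [map_mul]; exact T.mul_mem hx hy
    | inv x _ hx => rw [map_inv]; exact T.inv_mem hx
  by_cases hT : T = ⊤
  · rw [eq_top_iff, ← hT]
    exact hTS
  exfalso
  have hfix := h.inv T hT hinv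
  apply h.ne
  apply MulEquiv.ext
  intro v
  set u := v⁻¹ * γ v with hu
  have hufix : γ u = u := hfix u (hmem v)
  have hγv : γ v = v * u := by rw [hu]; group
  have hn : ∀ n : ℕ, (γ ^ n) v = v * u ^ n := by
    intro n
    induction n with
    | zero => simp
    | succ n ih =>
      rw [pow_succ', MulAut.mul_apply, ih, map_mul, map_pow, hufix, hγv, pow_succ', mul_assoc]
  have h1 := hn q
  rw [h.pow] at h1
  have h2 : u ^ q = 1 := by
    have h3 : v = v * u ^ q := h1
    exact (mul_eq_left.mp h3.symm)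
  have h3 := eq_one_of_coprime_pow (p := p) (q := q) hpq hA u h2
  rw [h3, mul_one] at hγv
  exact hγv

theorem GoodAut.comm_fixed [Finite A] (hA : IsPGroup p A) (h : GoodAut q A γ) (a b : A) :
    γ ⁅a, b⁆ = ⁅a, b⁆ := by
  obtain ⟨v, hv⟩ := exists_ne_of_ne h.ne
  have hnt : Nontrivial A := ⟨⟨γ v, v, hv⟩⟩
  haveI : Group.IsNilpotent A := hA.isNilpotent
  have hlt : commutator A < ⊤ := IsSolvable.commutator_lt_top_of_nontrivial A
  have hne : commutator A ≠ ⊤ := hlt.ne
  refine h.inv (commutator A) hne ?_ ⁅a, b⁆ (Subgroup.commutator_mem_commutator trivial trivial)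
  intro u hu
  have hc : (commutator A).Characteristic := inferInstance
  have : u ∈ (commutator A).comap (γ : A ≃* A).toMonoidHom := by
    rw [hc.fixed]
    exact hu
  exact this

theorem GoodAut.central [Finite A] (hpq : p ≠ q) (hA : IsPGroup p A) (h : GoodAut q A γ) (c : A)
    (hc : γ c = c) : c ∈ Subgroup.center A := by
  let S : Subgroup A := Subgroup.centralizer {c}
  have hS : S = ⊤ := by
    apply h.gen (p := p) hpq hA
    intro v
    rw [Subgroup.mem_centralizer_singleton_iff]
    have h1 := h.comm_fixed (p := p) hA v c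
    rw [commutatorElement_def, map_mul, map_mul, map_mul, map_inv, map_inv, hc]
      at h1
    have h2 : γ v * c * (γ v)⁻¹ = v * c * v⁻¹ := mul_right_cancel h1
    have h3 : γ v * c = v * c * v⁻¹ * γ v := by
      rw [← h2]
      group
    calc v⁻¹ * γ v * c = v⁻¹ * (γ v * c) := by group
      _ = v⁻¹ * (v * c * v⁻¹ * γ v) := by rw [h3]
      _ = c * (v⁻¹ * γ v) := by group
  rw [Subgroup.mem_center_iff]
  intro g
  have : g ∈ S := by rw [hS]; trivial
  have h4 := Subgroup.mem_centralizer_singleton_iff.mp this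
  exact h4

/-- Powers with exponent prime to `q` are again good. -/
theorem GoodAut.pow_of_not_dvd [Finite A] (h : GoodAut q A γ) (j : ℕ) (hj : ¬ q ∣ j) :
    GoodAut q A (γ ^ j) := by
  have hq1 := hq.out
  have hcop : Nat.Coprime j q := ((Nat.Prime.coprime_iff_not_dvd hq1).mpr hj).symm
  obtain ⟨m, -, hm⟩ := Nat.exists_mul_mod_eq_one_of_coprime hcop hq1.one_lt
  have hback : (γ ^ j) ^ m = γ := by
    rw [← pow_mul, pow_eq_pow_mod _ h.pow, hm, pow_one]
  have hfix : ∀ u, γ u = u → ∀ n : ℕ, (γ ^ n) u = u := by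
    intro u hu n
    induction n with
    | zero => simp
    | succ n ih => rw [pow_succ', MulAut.mul_apply, ih, hu]
  refine ⟨?_, ?_, ?_⟩
  · rw [← pow_mul, mul_comm, pow_mul, h.pow, one_pow]
  · intro h1
    apply h.ne
    rw [← hback, h1, one_pow]
  · intro U hU hinv u hu
    have hinv2 : ∀ n : ℕ, ∀ u ∈ U, ((γ ^ j) ^ n) u ∈ U := by
      intro n
      induction n with
      | zero => intro u hu; simpa using hu
      | succ n ih =>
        intro u hu
        rw [pow_succ', MulAut.mul_apply]
        exact hinv _ (ih u hu)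
    have hγinv : ∀ u ∈ U, γ u ∈ U := by
      intro u hu
      have := hinv2 m u hu
      rwa [hback] at this
    exact hfix u (h.inv U hU hγinv u hu) j

section Main

variable {K : Type*} [Field K] [Algebra (ZMod p) K] [Finite K]

/-- The main abstract construction: module form. -/
theorem GoodAut.sdata_of_mod [Finite A] (a : ℕ) (ha : a = orderOf (p : ZMod q))
    (hK : Nat.card K = p ^ a) (ζ : K) (h1 : ζ ^ q = 1) (h2 : ζ ≠ 1) (hpq : p ≠ q)
    (hA : IsPGroup p A) (h : GoodAut q A γ)
    {W : Type*} [AddCommGroup W] [Module (ZMod p) W] (ρ : A → W)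
    (hρadd : ∀ x y, ρ (x * y) = ρ x + ρ y) (hρ : Function.Surjective ρ)
    (hker : ∀ u, ρ u = 0 ↔ γ u = u) (η : Module.End (ZMod p) W) (hη : ∀ u, η (ρ u) = ρ (γ u)) :
    ∃ j : ℕ, ¬ q ∣ j ∧ ∃ D : SData ζ A, (D.γ : MulAut A) = γ ^ j := by
  classical
  have hq1 := hq.out
  have hp1 := hp.out
  obtain ⟨v₀, hv₀⟩ := exists_ne_of_ne h.ne
  have hρ1 : ρ 1 = 0 := by
    have := hρadd 1 1
    rw [mul_one] at this
    simpa using this
  have hρinv : ∀ x, ρ x⁻¹ = - ρ x := by
    intro x
    have := hρadd x⁻¹ x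
    rw [inv_mul_cancel, hρ1] at this
    exact eq_neg_of_add_eq_zero_left this.symm
  have hηpow : ∀ (n : ℕ) (u : A), (η ^ n) (ρ u) = ρ ((γ ^ n) u) := by
    intro n
    induction n with
    | zero => intro u; simp
    | succ n ih =>
      intro u
      rw [pow_succ', Module.End.mul_apply, ih, hη, pow_succ', MulAut.mul_apply]
  have hηq : η ^ q = 1 := by
    ext x
    obtain ⟨u, rfl⟩ := hρ x
    rw [hηpow, h.pow]
    rfl
  have hη1 : η ≠ 1 := by
    intro h3
    have h4 : (fixSubgroup γ) = ⊤ := by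
      apply h.gen (p := p) hpq hA
      intro v
      rw [mem_fixSubgroup, ← hker, hρadd, hρinv, ← hη, h3]
      simp
    apply hv₀
    have : v₀ ∈ fixSubgroup γ := by rw [h4]; trivial
    exact this
  have hsimple : ∀ U : AddSubgroup W, (∀ u ∈ U, η u ∈ U) → U = ⊥ ∨ U = ⊤ := by
    intro U hU
    let U' : Subgroup A :=
      { carrier := {u | ρ u ∈ U}
        mul_mem' := by
          intro x y hx hy
          change ρ (x * y) ∈ U
          rw [hρadd]
          exact U.add_mem hx hy
        one_mem' := by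
          change ρ 1 ∈ U
          rw [hρ1]
          exact U.zero_mem
        inv_mem' := by
          intro x hx
          change ρ x⁻¹ ∈ U
          rw [hρinv]
          exact U.neg_mem hx }
    have hU' : ∀ u, u ∈ U' ↔ ρ u ∈ U := fun u => Iff.rfl
    by_cases htop : U' = ⊤
    · right
      rw [eq_top_iff]
      intro x _
      obtain ⟨u, rfl⟩ := hρ x
      rw [← hU', htop]
      trivial
    · left
      have hfix := h.inv U' htop (by
        intro u hu
        rw [hU', ← hη]
        exact hU _ ((hU' u).mp hu))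
      rw [eq_bot_iff]
      intro x hx
      obtain ⟨u, rfl⟩ := hρ x
      have := (hker u).mpr (hfix u ((hU' u).mpr hx))
      rw [this]
      exact AddSubgroup.mem_bot.mpr rfl
  obtain ⟨ω, f, hωq, hω1, hf⟩ :=
    exists_module_iso (p := p) (q := q) a ha hK ζ h1 h2 η hηq hη1 hsimple
  -- `ζ` is a power of `ω`
  have hprim : IsPrimitiveRoot ω q := by
    have := IsPrimitiveRoot.orderOf ω
    rwa [orderOf_eq_prime hωq hω1] at this
  haveI : NeZero q := ⟨hq1.ne_zero⟩
  obtain ⟨j, -, hj⟩ := hprim.eq_pow_of_pow_eq_one h1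
  have hjq : ¬ q ∣ j := by
    rintro ⟨t, rfl⟩
    rw [pow_mul, hωq, one_pow] at hj
    exact h2 hj.symm
  have hfpow : ∀ (n : ℕ) (x : K), f (ω ^ n * x) = (η ^ n) (f x) := by
    intro n
    induction n with
    | zero => intro x; simp
    | succ n ih =>
      intro x
      rw [pow_succ', mul_assoc, hf, ih, pow_succ', Module.End.mul_apply]
  have hfζ : ∀ x : K, f (ζ * x) = (η ^ j) (f x) := by
    intro x
    rw [← hj, hfpow]
  refine ⟨j, hjq, ?_⟩
  have hgood := h.pow_of_not_dvd j hjq
  let π : A →* Multiplicative K :=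
    { toFun := fun u => Multiplicative.ofAdd (f.symm (ρ u))
      map_one' := by
        rw [hρ1, map_zero]
        rfl
      map_mul' := by
        intro x y
        rw [hρadd, map_add, ofAdd_add] }
  have hπ : ∀ u, π u = Multiplicative.ofAdd (f.symm (ρ u)) := fun u => rfl
  have hπ1 : ∀ u, π u = 1 → γ u = u := by
    intro u hu
    rw [hπ] at hu
    have h3 : f.symm (ρ u) = 0 := hu
    have h4 : ρ u = 0 := by
      have := congrArg f h3
      simpa using this
    exact (hker u).mp h4
  have hfixpow : ∀ u, γ u = u → ∀ n : ℕ, (γ ^ n) u = u := by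
    intro u hu n
    induction n with
    | zero => simp
    | succ n ih => rw [pow_succ', MulAut.mul_apply, ih, hu]
  let D : SData ζ A :=
    { π := π
      γ := γ ^ j
      surj := by
        intro x
        obtain ⟨u, hu⟩ := hρ (f (Multiplicative.toAdd x))
        refine ⟨u, ?_⟩
        rw [hπ, hu]
        simp only [AddEquiv.symm_apply_apply]
        rfl
      equiv := by
        intro r
        have e1 : ρ (((γ ^ j : MulAut A) : A ≃* A) r) = (η ^ j) (ρ r) := by
          rw [hηpow]
        rw [hπ, e1, hπ]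
        simp only [toAdd_ofAdd]
        congr 1
        apply f.injective
        rw [hfζ, f.apply_symm_apply, f.apply_symm_apply]
      cen := fun r hr => h.central (p := p) hpq hA r (hπ1 r hr)
      fix := fun r hr => hfixpow r (hπ1 r hr) j
      gen := fun S hS => hgood.gen (p := p) hpq hA S hS }
  exact ⟨D, rfl⟩

/-- The main abstract construction: quotient form. -/
theorem GoodAut.sdata_of_quot [Finite A] (a : ℕ) (ha : a = orderOf (p : ZMod q))
    (hK : Nat.card K = p ^ a) (ζ : K) (h1 : ζ ^ q = 1) (h2 : ζ ≠ 1) (hpq : p ≠ q)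
    (hA : IsPGroup p A) (h : GoodAut q A γ)
    {Q : Type*} [CommGroup Q] (ρ : A →* Q) (hρ : Function.Surjective ρ)
    (hker : ∀ u, ρ u = 1 ↔ γ u = u) (η₀ : Q →* Q) (hη : ∀ u, ρ (γ u) = η₀ (ρ u)) :
    ∃ j : ℕ, ¬ q ∣ j ∧ ∃ D : SData ζ A, (D.γ : MulAut A) = γ ^ j := by
  classical
  have hq1 := hq.out
  have hp1 := hp.out
  have hFinQ : Finite Q := Finite.of_surjective ρ hρ
  have hQp : IsPGroup p Q := hA.of_surjective ρ hρ
  obtain ⟨v₀, hv₀⟩ := exists_ne_of_ne h.ne
  have hρv₀ : ρ v₀ ≠ 1 := fun h3 => hv₀ ((hker v₀).mp h3)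
  have hnt : Nontrivial Q := ⟨⟨ρ v₀, 1, hρv₀⟩⟩
  have hpow : ∀ x : Q, x ^ p = 1 := by
    let V : Subgroup A := ((powMonoidHom p : Q →* Q).ker).comap ρ
    have hV : ∀ u, u ∈ V ↔ ρ u ^ p = 1 := fun u => Iff.rfl
    by_cases hVtop : V = ⊤
    · intro x
      obtain ⟨u, rfl⟩ := hρ x
      have : u ∈ V := by rw [hVtop]; trivial
      exact (hV u).mp this
    · exfalso
      have hinv : ∀ u ∈ V, γ u ∈ V := by
        intro u hu
        rw [hV] at hu ⊢
        rw [hη, ← map_pow, hu, map_one]
      have hfix := h.inv V hVtop hinv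
      obtain ⟨n, hn0, hn⟩ := hQp.nontrivial_iff_card.mp hnt
      have hdvd : p ∣ Nat.card Q := by
        rw [hn]
        exact dvd_pow_self p hn0.ne'
      obtain ⟨x, hx⟩ := exists_prime_orderOf_dvd_card' p hdvd
      obtain ⟨u, rfl⟩ := hρ x
      have hu : u ∈ V := by
        rw [hV, ← hx]
        exact pow_orderOf_eq_one _
      have : ρ u = 1 := (hker u).mpr (hfix u hu)
      rw [this, orderOf_one] at hx
      exact hp1.one_lt.ne hx
  letI hmod : Module (ZMod p) (Additive Q) :=
    AddCommGroup.zmodModule (n := p) (fun x => by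
      change Additive.ofMul ((Additive.toMul x) ^ p) = 0
      rw [hpow]
      rfl)
  let η : (Additive Q) →ₗ[ZMod p] (Additive Q) := (MonoidHom.toAdditive η₀).toZModLinearMap p
  exact h.sdata_of_mod (p := p) a ha hK ζ h1 h2 hpq hA (W := Additive Q)
    (fun u => Additive.ofMul (ρ u))
    (fun x y => by rw [map_mul]; rfl)
    (fun x => by
      obtain ⟨u, hu⟩ := hρ (Additive.toMul x)
      refine ⟨u, ?_⟩
      change Additive.ofMul (ρ u) = x
      rw [hu]
      rfl)
    (fun u => (hker u))
    η (fun u => by rw [hη]; rfl)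

/-- The main abstract construction. -/
theorem GoodAut.exists_sdata [Finite A] (a : ℕ) (ha : a = orderOf (p : ZMod q))
    (hK : Nat.card K = p ^ a) (ζ : K) (h1 : ζ ^ q = 1) (h2 : ζ ≠ 1) (hpq : p ≠ q)
    (hA : IsPGroup p A) (h : GoodAut q A γ) :
    ∃ j : ℕ, ¬ q ∣ j ∧ ∃ D : SData ζ A, (D.γ : MulAut A) = γ ^ j := by
  have hCn : (fixSubgroup γ).Normal := by
    constructor
    intro n hn g
    have := Subgroup.mem_center_iff.mp (h.central (p := p) hpq hA n hn) g
    rw [this]
    simpa using hn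
  let C := fixSubgroup γ
  letI instC : CommGroup (A ⧸ C) :=
    { (QuotientGroup.Quotient.group C) with
      mul_comm := by
        intro x y
        obtain ⟨a, rfl⟩ := QuotientGroup.mk'_surjective C x
        obtain ⟨b, rfl⟩ := QuotientGroup.mk'_surjective C y
        rw [← map_mul, ← map_mul]
        apply (QuotientGroup.eq_iff_div_mem).mpr
        have e : a * b / (b * a) = ⁅a, b⁆ := by
          rw [commutatorElement_def]
          simp only [div_eq_mul_inv, mul_inv_rev, mul_assoc]
        rw [e]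
        exact h.comm_fixed (p := p) hA a b }
  let ρ : A →* (A ⧸ C) := QuotientGroup.mk' C
  let η₀ : (A ⧸ C) →* (A ⧸ C) := QuotientGroup.map C C (γ : A ≃* A).toMonoidHom (by
    intro x hx
    change γ (γ x) = γ x
    have hx' : γ x = x := hx
    rw [hx', hx'])
  exact h.sdata_of_quot (p := p) a ha hK ζ h1 h2 hpq hA ρ (QuotientGroup.mk'_surjective C)
    (fun u => QuotientGroup.eq_one_iff u) η₀ (fun u => rfl)

end Main

end Cfsg.Agent.Lib.Schmidt4395
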