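import Cfsg.Agent.Lib.Schmidt4395.Field

/-!
The key bound: a "central extension of `K` with `ζ`-action" has commutator subgroup of order
at most `p ^ b` (`a = 2 b`), and is abelian if `a` is odd.
-/

set_option autoImplicit false

namespace Cfsg.Agent.Lib.Schmidt4395

open Polynomial
open scoped commutatorElement

universe u

/-- The commutative group structure on the centre. -/
@[reducible] def centerCommGroup (R : Type*) [Group R] : CommGroup (Subgroup.center R) :=
  { (inferInstance : Group (Subgroup.center R)) with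
    mul_comm := fun a b => Subtype.ext (Subgroup.mem_center_iff.mp b.2 a.1) }

attribute [local instance] centerCommGroup

/-- A group `R` with an automorphism `γ` and a surjection `π` to the additive group of `K`, with
kernel central and fixed by `γ`, `γ` acting as `ζ` on `K`. -/
structure SBase {K : Type*} [Field K] (ζ : K) (R : Type u) [Group R] where
  π : R →* Multiplicative K
  γ : R ≃* R
  surj : Function.Surjective π
  equiv : ∀ r, π (γ r) = Multiplicative.ofAdd (ζ * Multiplicative.toAdd (π r))
  cen : ∀ r, π r = 1 → r ∈ Subgroup.center R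
  fix : ∀ r, π r = 1 → γ r = r

/-- ... and moreover `R = [R, γ]`. -/
structure SData {K : Type*} [Field K] (ζ : K) (R : Type u) [Group R] extends SBase ζ R where
  gen : ∀ S : Subgroup R, (∀ r, r⁻¹ * γ r ∈ S) → S = ⊤

section

variable {K : Type*} [Field K] {ζ : K} {R : Type u} [Group R] (D : SBase ζ R)

include D in
theorem SBase.pi_comm (r s : R) : D.π ⁅r, s⁆ = 1 := by
  rw [commutatorElement_def]
  simp only [map_mul, map_inv]
  rw [mul_comm (D.π r), mul_assoc, mul_assoc]
  simp

include D in
theorem SBase.comm_mem_center (r s : R) : ⁅r, s⁆ ∈ Subgroup.center R :=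
  D.cen _ (D.pi_comm r s)

include D in
theorem SBase.comm_mul_left (r₁ r₂ s : R) : ⁅r₁ * r₂, s⁆ = ⁅r₁, s⁆ * ⁅r₂, s⁆ := by
  have h := D.comm_mem_center r₂ s
  have h1 : ⁅r₁ * r₂, s⁆ = r₁ * ⁅r₂, s⁆ * s * r₁⁻¹ * s⁻¹ := by
    simp only [commutatorElement_def]
    group
  rw [h1, Subgroup.mem_center_iff.mp h r₁, Subgroup.mem_center_iff.mp h ⁅r₁, s⁆]
  simp only [commutatorElement_def]
  group

include D in
theorem SBase.comm_mul_right (s r₁ r₂ : R) : ⁅s, r₁ * r₂⁆ = ⁅s, r₁⁆ * ⁅s, r₂⁆ := by
  have h : ⁅s, r₁ * r₂⁆ = ⁅r₁ * r₂, s⁆⁻¹ := (commutatorElement_inv _ _).symm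
  rw [h, D.comm_mul_left, mul_inv_rev, commutatorElement_inv, commutatorElement_inv]
  exact (Subgroup.mem_center_iff.mp (D.comm_mem_center s r₂) _).symm ▸ rfl

include D in
theorem SBase.comm_congr {r r' s s' : R} (hr : D.π r = D.π r') (hs : D.π s = D.π s') :
    ⁅r, s⁆ = ⁅r', s'⁆ := by
  have h1 : D.π (r'⁻¹ * r) = 1 := by simp [hr]
  have h2 : D.π (s'⁻¹ * s) = 1 := by simp [hs]
  have hz1 := D.cen _ h1
  have hz2 := D.cen _ h2
  obtain ⟨z1, hz1', rfl⟩ : ∃ z, z ∈ Subgroup.center R ∧ r = r' * z :=
    ⟨r'⁻¹ * r, hz1, by group⟩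
  obtain ⟨z2, hz2', rfl⟩ : ∃ z, z ∈ Subgroup.center R ∧ s = s' * z :=
    ⟨s'⁻¹ * s, hz2, by group⟩
  have e1 : ∀ z t : R, z ∈ Subgroup.center R → ⁅z, t⁆ = 1 := by
    intro z t hz
    rw [commutatorElement_eq_one_iff_mul_comm]
    exact (Subgroup.mem_center_iff.mp hz t).symm
  have e2 : ∀ z t : R, z ∈ Subgroup.center R → ⁅t, z⁆ = 1 := by
    intro z t hz
    rw [commutatorElement_eq_one_iff_mul_comm]
    exact Subgroup.mem_center_iff.mp hz t
  rw [D.comm_mul_left, D.comm_mul_right, D.comm_mul_right, e1 _ _ hz1', e1 _ _ hz1', e2 _ _ hz2']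
  simp

/-- The kernel lies in the commutator subgroup. -/
theorem SData.ker_le_commutator [Finite R] (D : SData ζ R) : D.π.ker ≤ commutator R := by
  intro d hd
  have hd1 : D.π d = 1 := hd
  let E := Abelianization R
  let gbar : E →* E := Abelianization.map D.γ.toMonoidHom
  let f : E →* E := gbar / MonoidHom.id E
  have hf : ∀ r : R, f (Abelianization.of r) = Abelianization.of (r⁻¹ * D.γ r) := by
    intro r
    have : gbar (Abelianization.of r) = Abelianization.of (D.γ r) := rfl
    simp only [f, MonoidHom.div_apply, MonoidHom.id_apply, this, map_mul, map_inv]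
    rw [div_eq_mul_inv, mul_comm]
  have htop := D.gen (f.range.comap Abelianization.of) (by
    intro r
    rw [Subgroup.mem_comap, ← hf]
    exact ⟨_, rfl⟩)
  have hsurj : Function.Surjective f := by
    intro e
    obtain ⟨r, rfl⟩ := QuotientGroup.mk'_surjective (commutator R) e
    have : r ∈ f.range.comap Abelianization.of := by rw [htop]; trivial
    exact this
  haveI : Finite E := inferInstanceAs (Finite (R ⧸ commutator R))
  have hinj : Function.Injective f := Finite.injective_iff_surjective.mpr hsurj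
  have h1 : f (Abelianization.of d) = 1 := by
    rw [hf, D.fix d hd1]
    simp
  have h2 : Abelianization.of d = 1 := hinj (by rw [h1, map_one])
  have h3 : d ∈ (Abelianization.of (G := R)).ker := h2
  rwa [Abelianization.ker_of] at h3

/-- The commutator form on `K`. -/
noncomputable def SBase.form : K →+ K →+ Additive (Subgroup.center R) :=
  AddMonoidHom.mk' (fun x =>
    AddMonoidHom.mk' (fun x' =>
      Additive.ofMul (⟨⁅Function.surjInv D.surj (Multiplicative.ofAdd x),
        Function.surjInv D.surj (Multiplicative.ofAdd x')⁆, D.comm_mem_center _ _⟩ :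
          Subgroup.center R)) (by
      intro a b
      rw [← ofMul_mul]
      congr 1
      apply Subtype.ext
      simp only [Subgroup.coe_mul]
      rw [← D.comm_mul_right]
      apply D.comm_congr rfl
      simp [Function.surjInv_eq])) (by
    intro a b
    apply AddMonoidHom.ext
    intro c
    apply Additive.toMul.injective
    apply Subtype.ext
    change ⁅_, _⁆ = ⁅_, _⁆ * ⁅_, _⁆
    rw [← D.comm_mul_left]
    apply D.comm_congr _ rfl
    simp [Function.surjInv_eq])

theorem SBase.form_apply (r s : R) :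
    ((Additive.toMul (D.form (Multiplicative.toAdd (D.π r)) (Multiplicative.toAdd (D.π s))) :
      Subgroup.center R) : R) = ⁅r, s⁆ := by
  simp only [SBase.form, AddMonoidHom.mk'_apply, toMul_ofMul]
  apply D.comm_congr <;> simp [Function.surjInv_eq]

theorem SBase.form_eq_iff (x y : K) (r s : R) (hr : D.π r = Multiplicative.ofAdd x)
    (hs : D.π s = Multiplicative.ofAdd y) :
    ((Additive.toMul (D.form x y) : Subgroup.center R) : R) = ⁅r, s⁆ := by
  have := D.form_apply r s
  rwa [hr, hs] at this

theorem SBase.form_inv (x y : K) : D.form (ζ * x) (ζ * y) = D.form x y := by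
  obtain ⟨r, hr⟩ := D.surj (Multiplicative.ofAdd x)
  obtain ⟨s, hs⟩ := D.surj (Multiplicative.ofAdd y)
  apply Additive.toMul.injective
  apply Subtype.ext
  rw [D.form_eq_iff x y r s hr hs, D.form_eq_iff (ζ * x) (ζ * y) (D.γ r) (D.γ s)
    (by rw [D.equiv, hr]; rfl) (by rw [D.equiv, hs]; rfl)]
  rw [← map_commutatorElement]
  exact D.fix _ (D.pi_comm r s)

theorem SBase.form_alt (x : K) : D.form x x = 0 := by
  obtain ⟨r, hr⟩ := D.surj (Multiplicative.ofAdd x)
  apply Additive.toMul.injective
  apply Subtype.ext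
  rw [D.form_eq_iff x x r r hr hr]
  simp

/-- If the kernel lies in the commutator subgroup, then `R = [R, γ]`. -/
theorem SBase.gen_of_comm (hζ : ζ ≠ 1) (hcomm : ∀ r, D.π r = 1 → r ∈ commutator R)
    (S : Subgroup R) (hS : ∀ r, r⁻¹ * D.γ r ∈ S) : S = ⊤ := by
  have hζ1 : ζ - 1 ≠ 0 := sub_ne_zero.mpr hζ
  -- every element is, modulo the kernel, in `S`
  have h1 : ∀ r : R, ∃ s ∈ S, D.π (s⁻¹ * r) = 1 := by
    intro r
    obtain ⟨r₀, hr₀⟩ := D.surj (Multiplicative.ofAdd ((ζ - 1)⁻¹ * Multiplicative.toAdd (D.π r)))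
    refine ⟨r₀⁻¹ * D.γ r₀, hS r₀, ?_⟩
    have h2 : D.π (r₀⁻¹ * D.γ r₀) = D.π r := by
      rw [map_mul, map_inv, D.equiv, hr₀]
      apply Multiplicative.toAdd.injective
      simp only [toAdd_mul, toAdd_inv, toAdd_ofAdd]
      field_simp
      ring
    rw [map_mul, map_inv, h2]
    simp
  have hcommS : commutator R ≤ S := by
    rw [commutator_def, Subgroup.commutator_le]
    intro a _ b _
    obtain ⟨s, hs, hs1⟩ := h1 a
    obtain ⟨t, ht, ht1⟩ := h1 b
    have h3 : ⁅a, b⁆ = ⁅s, t⁆ := by
      apply D.comm_congr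
      · have : D.π a = D.π s * D.π (s⁻¹ * a) := by rw [← map_mul]; group
        rw [this, hs1, mul_one]
      · have : D.π b = D.π t * D.π (t⁻¹ * b) := by rw [← map_mul]; group
        rw [this, ht1, mul_one]
    rw [h3, commutatorElement_def]
    exact S.mul_mem (S.mul_mem (S.mul_mem hs ht) (S.inv_mem hs)) (S.inv_mem ht)
  rw [eq_top_iff]
  intro r _
  obtain ⟨s, hs, hs1⟩ := h1 r
  have h4 : r = s * (s⁻¹ * r) := by group
  rw [h4]
  exact S.mul_mem hs (hcommS (hcomm _ hs1))

end

section Main

variable {p q : ℕ} [hp : Fact p.Prime] [hq : Fact q.Prime]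
variable {K : Type*} [Field K] [Finite K] [Algebra (ZMod p) K]

/-- `a` odd: `R` is abelian, so the kernel is trivial. -/
theorem bound_odd (a : ℕ) (ha : a = orderOf (p : ZMod q)) (hK : Nat.card K = p ^ a) (hodd : Odd a)
    {ζ : K} (h1 : ζ ^ q = 1) (h2 : ζ ≠ 1) {R : Type u} [Group R] [Finite R] (D : SData ζ R) :
    Nat.card D.π.ker ≤ 1 := by
  have hB := bil_odd (p := p) (q := q) a ha hK hodd ζ h1 h2 D.toSBase.form D.toSBase.form_inv
    D.toSBase.form_alt
  have hcomm : commutator R = ⊥ := by
    rw [eq_bot_iff, commutator_def, Subgroup.commutator_le]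
    intro r _ s _
    have := D.form_apply r s
    rw [hB] at this
    rw [Subgroup.mem_bot, ← this]
    rfl
  have hker : D.π.ker = ⊥ := by
    rw [eq_bot_iff, ← hcomm]
    exact D.ker_le_commutator
  rw [hker]
  simp

/-- `a = 2 b`: the kernel has at most `p ^ b` elements. -/
theorem bound_even (b : ℕ) (hb0 : b ≠ 0) (hK : Nat.card K = p ^ (2 * b))
    {ζ : K} (hζbar : barHom p K b ζ = ζ⁻¹) (hζ0 : ζ ≠ 0)
    (hspan : ∀ S : AddSubgroup K, (1 : K) ∈ S → (∀ x ∈ S, ζ * x ∈ S) → S = ⊤)
    {R : Type u} [Group R] [Finite R] (D : SData ζ R) :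
    Nat.card D.π.ker ≤ p ^ b := by
  classical
  have hp1 := hp.out
  obtain ⟨hfix, hanti, -, -⟩ := card_main (p := p) (K := K) b hb0 hK
  -- `g w = B w 1`
  let g : K →+ Additive (Subgroup.center R) := (D.form.flip) 1
  have hg : ∀ x x', D.form x x' = g (x * barHom p K b x') := by
    intro x x'
    have hS := hspan
      { carrier := {x' | ∀ x, D.form x x' = g (x * barHom p K b x')}
        add_mem' := by
          intro u v hu hv x
          simp only [Set.mem_ofPred_eq] at hu hv
          rw [map_add, hu, hv, map_add, mul_add, map_add]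
        zero_mem' := by simp
        neg_mem' := by
          intro u hu x
          simp only [Set.mem_ofPred_eq] at hu
          rw [map_neg, hu, map_neg, mul_neg, map_neg] }
      (by
        intro x
        simp [g])
      (by
        intro u hu x
        simp only [Set.mem_ofPred_eq, AddSubgroup.mem_mk, AddSubmonoid.mem_mk,
          AddSubsemigroup.mem_mk] at hu
        have h3 := D.form_inv (ζ⁻¹ * x) u
        rw [mul_inv_cancel_left₀ hζ0] at h3
        rw [h3, hu, map_mul (barHom p K b), hζbar]
        congr 1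
        ring)
    have : x' ∈ (⊤ : AddSubgroup K) := trivial
    rw [← hS] at this
    exact this x
  have hg0 : ∀ k, barHom p K b k = k → g k = 0 := by
    intro k hk
    obtain ⟨x, rfl⟩ := exists_norm b hb0 hK k hk
    rw [← hg]
    exact D.form_alt x
  -- the homomorphism to `R`
  let h : Multiplicative K →* R :=
    { toFun := fun w => ((Additive.toMul (g (Multiplicative.toAdd w)) : Subgroup.center R) : R)
      map_one' := by simp
      map_mul' := by
        intro u v
        simp }
  have hcomm : commutator R ≤ h.range := by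
    rw [commutator_def, Subgroup.commutator_le]
    intro r _ s _
    rw [← D.form_apply r s, hg]
    exact ⟨_, rfl⟩
  have hkerh : Nat.card (fixSub p K b) ≤ Nat.card h.ker := by
    let φ : fixSub p K b → h.ker := fun k => ⟨Multiplicative.ofAdd (k : K), by
      rw [MonoidHom.mem_ker]
      change ((Additive.toMul (g (k : K)) : Subgroup.center R) : R) = 1
      rw [hg0 _ k.2]
      rfl⟩
    apply Nat.card_le_card_of_injective φ
    intro k k' hkk
    have : (k : K) = k' := congrArg (fun z : h.ker => Multiplicative.toAdd (z : Multiplicative K)) hkk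
    exact Subtype.ext this
  have hcard : Nat.card K = Nat.card h.ker * Nat.card h.range := by
    have h3 := Subgroup.card_eq_card_quotient_mul_card_subgroup h.ker
    rw [Nat.card_congr (QuotientGroup.quotientKerEquivRange h).toEquiv] at h3
    rw [mul_comm]
    exact h3
  have hpos : 0 < p ^ b := pow_pos hp1.pos _
  have hK2 : Nat.card K = p ^ b * p ^ b := by rw [hK, two_mul, pow_add]
  have hrange : Nat.card h.range ≤ p ^ b := by
    by_contra hlt
    push Not at hlt
    have : p ^ b * p ^ b < Nat.card h.ker * Nat.card h.range := by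
      calc p ^ b * p ^ b < p ^ b * Nat.card h.range := Nat.mul_lt_mul_of_pos_left hlt hpos
        _ ≤ _ := Nat.mul_le_mul_right _ (hfix ▸ hkerh)
    omega
  calc Nat.card D.π.ker ≤ Nat.card h.range :=
        Subgroup.card_le_of_le (D.ker_le_commutator.trans hcomm)
    _ ≤ p ^ b := hrange

end Main

end Cfsg.Agent.Lib.Schmidt4395
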