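import Mathlib

/-!
Field lemmas for the universal minimal non-`p`-nilpotent groups (statement S4395).

`K` is a finite field of size `p ^ a`, `a` the order of `p` modulo the prime `q`.
-/

set_option autoImplicit false

namespace Cfsg.Agent.Lib.Schmidt4395

open Polynomial

variable {p q : ℕ} [hp : Fact p.Prime] [hq : Fact q.Prime]
variable {K : Type*} [Field K] [Algebra (ZMod p) K]

theorem aeval_mem_of_closed (ω : K) (S : AddSubgroup K) (hS1 : (1 : K) ∈ S)
    (hSω : ∀ x ∈ S, ω * x ∈ S) (g : (ZMod p)[X]) : aeval ω g ∈ S := by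
  induction g using Polynomial.induction_on with
  | C c =>
    have hc : (c : ZMod p) = ((c.val : ℕ) : ZMod p) := by simp
    rw [aeval_C, hc, map_natCast, ← nsmul_one]
    exact S.nsmul_mem hS1 _
  | add f g hf hg =>
    rw [map_add]
    exact S.add_mem hf hg
  | monomial n c h =>
    have : aeval ω (C c * X ^ (n + 1)) = ω * aeval ω (C c * X ^ n) := by
      simp only [map_mul, map_pow, aeval_X, pow_succ]
      ring
    rw [this]
    exact hSω _ h

variable [Finite K]

/-- The field is generated additively by the powers of any element of order `q`. -/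
theorem span_top (a : ℕ) (ha : a = orderOf (p : ZMod q)) (hK : Nat.card K = p ^ a) (ω : K)
    (h1 : ω ^ q = 1) (h2 : ω ≠ 1) (S : AddSubgroup K) (hS1 : (1 : K) ∈ S)
    (hSω : ∀ x ∈ S, ω * x ∈ S) : S = ⊤ := by
  classical
  have hp1 := hp.out
  have hq1 := hq.out
  let F := IntermediateField.adjoin (ZMod p) ({ω} : Set K)
  have hωF : ω ∈ F := IntermediateField.mem_adjoin_simple_self _ _
  have hfin : Finite F := Subtype.finite
  haveI : Module.Finite (ZMod p) K := Module.Finite.of_finite
  haveI : Module.Finite (ZMod p) F := inferInstance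
  set d := Module.finrank (ZMod p) F with hd
  have hcard : Nat.card F = p ^ d := by
    have := Module.natCard_eq_pow_finrank (K := ZMod p) (V := F)
    rwa [Nat.card_zmod] at this
  let ω' : F := ⟨ω, hωF⟩
  have hω'1 : ω' ^ q = 1 := by
    apply Subtype.ext
    simpa [ω'] using h1
  have hω'2 : ω' ≠ 1 := by
    intro h
    exact h2 (congrArg Subtype.val h)
  have hω'0 : ω' ≠ 0 := by
    intro h
    rw [h, zero_pow hq1.ne_zero] at hω'1
    exact zero_ne_one hω'1
  let u : Fˣ := Units.mk0 ω' hω'0
  have hu1 : u ^ q = 1 := by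
    apply Units.ext
    simpa [u] using hω'1
  have hu2 : u ≠ 1 := by
    intro h
    apply hω'2
    have := congrArg Units.val h
    simpa [u] using this
  have hord : orderOf u = q := orderOf_eq_prime hu1 hu2
  have hdvd : q ∣ p ^ d - 1 := by
    have := orderOf_dvd_natCard u
    rw [hord, Nat.card_units, hcard] at this
    exact this
  have hpd : 1 ≤ p ^ d := Nat.one_le_pow _ _ hp1.pos
  have hpow : (p : ZMod q) ^ d = 1 := by
    have h3 : ((p ^ d - 1 : ℕ) : ZMod q) = 0 := (ZMod.natCast_eq_zero_iff _ _).mpr hdvd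
    rw [Nat.cast_sub hpd] at h3
    push_cast at h3
    exact sub_eq_zero.mp h3
  have hdvd2 : a ∣ d := by
    rw [ha]
    exact orderOf_dvd_of_pow_eq_one hpow
  have hd0 : d ≠ 0 := by
    intro h0
    rw [h0, pow_zero] at hcard
    have : Nontrivial F := inferInstance
    have := Finite.one_lt_card (α := F)
    omega
  have hle : a ≤ d := Nat.le_of_dvd (Nat.pos_of_ne_zero hd0) hdvd2
  have hcardle : Nat.card K ≤ Nat.card F := by
    rw [hK, hcard]
    exact Nat.pow_le_pow_right hp1.pos hle
  have hFtop : ∀ x : K, x ∈ F := by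
    have hinj : Function.Injective (Subtype.val : F → K) := Subtype.val_injective
    have hbij := (Nat.bijective_iff_injective_and_card _).mpr
      ⟨hinj, le_antisymm (Nat.card_le_card_of_injective _ hinj) hcardle⟩
    intro x
    obtain ⟨y, hy⟩ := hbij.2 x
    rw [← hy]
    exact y.2
  rw [eq_top_iff]
  intro x _
  have hx := hFtop x
  have halg : IsAlgebraic (ZMod p) ω := Algebra.IsAlgebraic.isAlgebraic ω
  have hx2 : x ∈ F.toSubalgebra := hx
  rw [IntermediateField.adjoin_simple_toSubalgebra_of_isAlgebraic halg,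
    Algebra.adjoin_singleton_eq_range_aeval] at hx2
  obtain ⟨g, rfl⟩ := hx2
  exact aeval_mem_of_closed ω S hS1 hSω g

omit [Algebra (ZMod p) K] in
/-- Existence of an element of order `q`. -/
theorem exists_zeta (a : ℕ) (ha : a = orderOf (p : ZMod q)) (hK : Nat.card K = p ^ a) :
    ∃ ζ : K, ζ ^ q = 1 ∧ ζ ≠ 1 := by
  classical
  have hp1 := hp.out
  have hq1 := hq.out
  have h1 : (p : ZMod q) ^ a = 1 := by rw [ha]; exact pow_orderOf_eq_one _
  have hdvd : q ∣ p ^ a - 1 := by
    have hpa : 1 ≤ p ^ a := Nat.one_le_pow _ _ hp1.pos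
    rw [← ZMod.natCast_eq_zero_iff, Nat.cast_sub hpa]
    push_cast
    rw [h1, sub_self]
  have hcard : q ∣ Nat.card Kˣ := by rwa [Nat.card_units, hK]
  haveI : Fact q.Prime := hq
  obtain ⟨u, hu⟩ := exists_prime_orderOf_dvd_card' q hcard
  refine ⟨(u : K), ?_, ?_⟩
  · have := pow_orderOf_eq_one u
    rw [hu] at this
    have h2 := congrArg Units.val this
    simpa using h2
  · intro h
    have : u = 1 := Units.ext (by simpa using h)
    rw [this, orderOf_one] at hu
    exact hq1.one_lt.ne hu

section Bil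

variable {Y : Type*} [AddCommGroup Y]

omit hq [Finite K] in
theorem bil_rel (ζ : K) (hζ0 : ζ ≠ 0) (B : K →+ K →+ Y)
    (hinv : ∀ x x', B (ζ * x) (ζ * x') = B x x') (g : (ZMod p)[X]) :
    ∀ x x', B (aeval ζ⁻¹ g * x) x' = B x (aeval ζ g * x') := by
  induction g using Polynomial.induction_on with
  | C c =>
    intro x x'
    have hc : (c : ZMod p) = ((c.val : ℕ) : ZMod p) := by simp
    rw [aeval_C, aeval_C, hc, map_natCast, ← nsmul_eq_mul, ← nsmul_eq_mul, map_nsmul, map_nsmul]
    simp
  | add f g hf hg =>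
    intro x x'
    simp only [map_add, add_mul, AddMonoidHom.add_apply, hf, hg]
  | monomial n c h =>
    intro x x'
    have h1 : aeval ζ⁻¹ (C c * X ^ (n + 1)) * x = aeval ζ⁻¹ (C c * X ^ n) * (ζ⁻¹ * x) := by
      simp only [map_mul, map_pow, aeval_X, pow_succ]
      ring
    have h2 : aeval ζ (C c * X ^ (n + 1)) * x' = ζ * (aeval ζ (C c * X ^ n) * x') := by
      simp only [map_mul, map_pow, aeval_X, pow_succ]
      ring
    rw [h1, h, h2, ← hinv (ζ⁻¹ * x), mul_inv_cancel_left₀ hζ0]

/-- For `a` odd, every `ζ`-invariant alternating biadditive map on `K` vanishes. -/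
theorem bil_odd (a : ℕ) (ha : a = orderOf (p : ZMod q)) (hK : Nat.card K = p ^ a) (hodd : Odd a)
    (ζ : K) (h1 : ζ ^ q = 1) (h2 : ζ ≠ 1) (B : K →+ K →+ Y)
    (hinv : ∀ x x', B (ζ * x) (ζ * x') = B x x') (halt : ∀ x, B x x = 0) :
    ∀ x x', B x x' = 0 := by
  classical
  have hq1 := hq.out
  have hζ0 : ζ ≠ 0 := by
    intro h
    rw [h, zero_pow hq1.ne_zero] at h1
    exact zero_ne_one h1
  by_cases hq2 : q = 2
  · -- `ζ = -1`, and `K` is generated by `1`
    have hζ : ζ = -1 := by
      rw [hq2] at h1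
      have : (ζ - 1) * (ζ + 1) = 0 := by ring_nf; rw [h1]; ring
      rcases mul_eq_zero.mp this with h | h
      · exact absurd (sub_eq_zero.mp h) h2
      · exact eq_neg_of_add_eq_zero_left h
    have htop := span_top (p := p) (q := q) (K := K) a ha hK ζ h1 h2 (AddSubgroup.zmultiples (1 : K))
      (AddSubgroup.mem_zmultiples _) (by
        intro x hx
        rw [hζ, neg_one_mul]
        exact neg_mem hx)
    have hall : ∀ x : K, ∃ k : ℤ, x = k • (1 : K) := by
      intro x
      have : x ∈ AddSubgroup.zmultiples (1 : K) := by rw [htop]; trivial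
      obtain ⟨k, hk⟩ := AddSubgroup.mem_zmultiples_iff.mp this
      exact ⟨k, hk.symm⟩
    intro x x'
    obtain ⟨k, rfl⟩ := hall x
    obtain ⟨k', rfl⟩ := hall x'
    have h3 : B (k • (1 : K)) = k • B 1 := map_zsmul B k 1
    rw [h3, AddMonoidHom.smul_apply, map_zsmul, halt]
    simp
  · -- `q` odd
    haveI hgal : IsGalois (ZMod p) K := inferInstance
    haveI : Module.Finite (ZMod p) K := Module.Finite.of_finite
    set m := minpoly (ZMod p) ζ with hm
    have hfr : Module.finrank (ZMod p) K = a := by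
      have := Module.natCard_eq_pow_finrank (K := ZMod p) (V := K)
      rw [Nat.card_zmod, hK] at this
      exact (Nat.pow_right_injective hp.out.two_le this).symm
    have hc : aeval ζ⁻¹ m ≠ 0 := by
      intro hc0
      have halg : IsAlgebraic (ZMod p) ζ := Algebra.IsAlgebraic.isAlgebraic ζ
      obtain ⟨σ, hσ⟩ := minpoly.exists_algEquiv_of_root (K := ZMod p) (L := K) halg hc0
      have hσinv : σ ζ = ζ⁻¹ := by
        have h3 : (σ ζ)⁻¹ = ζ := by rw [← map_inv₀, hσ]
        exact inv_eq_iff_eq_inv.mp h3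
      have hsq : σ * σ = 1 := by
        have htop := span_top (p := p) (q := q) (K := K) a ha hK ζ h1 h2
          { carrier := {x | σ (σ x) = x}
            add_mem' := by
              intro x y hx hy
              simp only [Set.mem_ofPred_eq] at hx hy ⊢
              simp [hx, hy]
            zero_mem' := by simp
            neg_mem' := by
              intro x hx
              simp only [Set.mem_ofPred_eq] at hx ⊢
              simp [hx] }
          (by simp) (by
            intro x hx
            simp only [Set.mem_ofPred_eq, AddSubgroup.mem_mk, AddSubmonoid.mem_mk,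
              AddSubsemigroup.mem_mk] at hx ⊢
            have h3 : σ (σ ζ) = ζ := by
              rw [hσinv, map_inv₀, hσinv, inv_inv]
            rw [map_mul, map_mul, hx, h3])
        ext x
        have : x ∈ (⊤ : AddSubgroup K) := trivial
        rw [← htop] at this
        exact this
      have hne : σ ≠ 1 := by
        intro h
        rw [h] at hσinv
        have h3 : ζ ^ 2 = 1 := by
          have h4 : ζ = ζ⁻¹ := hσinv
          rw [pow_two]
          nth_rewrite 1 [h4]
          exact inv_mul_cancel₀ hζ0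
        have hd := orderOf_dvd_of_pow_eq_one h3
        have hord : orderOf ζ = q := orderOf_eq_prime h1 h2
        rw [hord] at hd
        exact hq2 ((Nat.prime_dvd_prime_iff_eq hq1 Nat.prime_two).mp hd)
      have hord2 : orderOf σ = 2 := by
        apply orderOf_eq_prime
        · rw [pow_two]; exact hsq
        · exact hne
      have hdvd : orderOf σ ∣ Nat.card (K ≃ₐ[ZMod p] K) := orderOf_dvd_natCard σ
      rw [hord2, IsGalois.card_aut_eq_finrank, hfr] at hdvd
      exact (Nat.not_even_iff_odd.mpr hodd) (even_iff_two_dvd.mpr hdvd)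
    have hrel := bil_rel ζ hζ0 B hinv m
    have hm0 : aeval ζ m = 0 := minpoly.aeval _ _
    intro x x'
    have := hrel ((aeval ζ⁻¹ m)⁻¹ * x) x'
    rw [mul_inv_cancel_left₀ hc, hm0, zero_mul, map_zero] at this
    exact this

end Bil

/-! ### The involution for `a` even -/

section Even

omit [Finite K] in
theorem charP_of_alg : CharP K p :=
  charP_of_injective_algebraMap (algebraMap (ZMod p) K).injective p

/-- The `p ^ b`-power map as a ring homomorphism, for `a = 2 b`. -/
noncomputable def barHom (p : ℕ) [hp : Fact p.Prime] (K : Type*) [Field K] [Algebra (ZMod p) K]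
    (b : ℕ) : K →+* K :=
  haveI : CharP K p := charP_of_alg (p := p)
  haveI : ExpChar K p := ExpChar.prime hp.out
  iterateFrobenius K p b

omit [Finite K] in
theorem barHom_apply (b : ℕ) (x : K) : barHom p K b x = x ^ p ^ b := by
  haveI : CharP K p := charP_of_alg (p := p)
  haveI : ExpChar K p := ExpChar.prime hp.out
  exact iterateFrobenius_def p b x

theorem barHom_barHom (b : ℕ) (hK : Nat.card K = p ^ (2 * b)) (x : K) :
    barHom p K b (barHom p K b x) = x := by
  classical
  haveI := Fintype.ofFinite K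
  rw [barHom_apply, barHom_apply, ← pow_mul, ← pow_add, ← two_mul, ← hK, Nat.card_eq_fintype_card]
  exact FiniteField.pow_card x

omit [Algebra (ZMod p) K] in
/-- Since `a = 2 b` is the order of `p` modulo `q`, `p ^ b ≡ -1`. -/
theorem zeta_pow_eq_inv (b : ℕ) (hb0 : b ≠ 0) (ha : 2 * b = orderOf (p : ZMod q))
    (ζ : K) (h1 : ζ ^ q = 1) (h2 : ζ ≠ 1) : ζ ^ p ^ b = ζ⁻¹ := by
  have hq1 := hq.out
  have hζ0 : ζ ≠ 0 := by
    intro h
    rw [h, zero_pow hq1.ne_zero] at h1
    exact zero_ne_one h1
  have hw : ((p : ZMod q) ^ b) * ((p : ZMod q) ^ b) = 1 := by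
    rw [← pow_add, ← two_mul, ha]
    exact pow_orderOf_eq_one _
  have hne : (p : ZMod q) ^ b ≠ 1 := by
    intro h
    have := orderOf_dvd_of_pow_eq_one h
    rw [← ha] at this
    have h3 := Nat.le_of_dvd (Nat.pos_of_ne_zero hb0) this
    omega
  have hm1 : (p : ZMod q) ^ b = -1 := by
    have : ((p : ZMod q) ^ b - 1) * ((p : ZMod q) ^ b + 1) = 0 := by
      ring_nf
      ring_nf at hw
      rw [hw]
      ring
    rcases mul_eq_zero.mp this with h | h
    · exact absurd (sub_eq_zero.mp h) hne
    · exact eq_neg_of_add_eq_zero_left h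
  have hdvd : q ∣ p ^ b + 1 := by
    rw [← ZMod.natCast_eq_zero_iff]
    push_cast
    rw [hm1]
    ring
  obtain ⟨c, hc⟩ := hdvd
  have h3 : ζ ^ (p ^ b + 1) = 1 := by rw [hc, pow_mul, h1, one_pow]
  rw [pow_succ] at h3
  exact eq_inv_of_mul_eq_one_left h3

variable (b : ℕ) (hb0 : b ≠ 0) (hK : Nat.card K = p ^ (2 * b))

omit [Finite K] [Algebra (ZMod p) K] hp in
theorem card_subtype_le_natDegree (f : K[X]) (hf : f ≠ 0) (P : K → Prop)
    (h : ∀ x, P x → f.eval x = 0) : Nat.card {x // P x} ≤ f.natDegree := by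
  classical
  let F := f.roots.toFinset
  have hmem : ∀ x : {x // P x}, x.1 ∈ F := by
    intro x
    simp only [F, Multiset.mem_toFinset, mem_roots hf, IsRoot.def]
    exact h x.1 x.2
  have inj : Function.Injective (fun x : {x // P x} => (⟨x.1, hmem x⟩ : F)) := by
    intro x y hxy
    exact Subtype.ext (congrArg (fun z : F => (z : K)) hxy)
  have h1 := Nat.card_le_card_of_injective _ inj
  rw [show Nat.card F = F.card from by rw [Nat.card_eq_fintype_card, Fintype.card_coe]] at h1
  calc _ ≤ _ := h1
    _ ≤ f.roots.card := Multiset.toFinset_card_le _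
    _ ≤ _ := card_roots' _

include hb0 in
/-- Polynomial bound on the number of fixed points of the involution. -/
theorem card_fix_le : Nat.card {x : K // barHom p K b x = x} ≤ p ^ b := by
  have hp1 := hp.out
  have hq0 : 2 ≤ p ^ b := by
    calc 2 ≤ p := hp1.two_le
      _ = p ^ 1 := (pow_one p).symm
      _ ≤ p ^ b := Nat.pow_le_pow_right hp1.pos (Nat.pos_of_ne_zero hb0)
  have hdeg : ((X : K[X]) ^ p ^ b - X).natDegree = p ^ b := by
    rw [natDegree_sub_eq_left_of_natDegree_lt] <;> simp <;> omega
  have hne : ((X : K[X]) ^ p ^ b - X) ≠ 0 := by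
    intro h
    rw [h] at hdeg
    simp at hdeg
    omega
  rw [← hdeg]
  apply card_subtype_le_natDegree _ hne
  intro x hx
  rw [barHom_apply] at hx
  simp [hx]

include hb0 in
theorem card_anti_le : Nat.card {x : K // barHom p K b x = -x} ≤ p ^ b := by
  have hp1 := hp.out
  have hq0 : 2 ≤ p ^ b := by
    calc 2 ≤ p := hp1.two_le
      _ = p ^ 1 := (pow_one p).symm
      _ ≤ p ^ b := Nat.pow_le_pow_right hp1.pos (Nat.pos_of_ne_zero hb0)
  have hdeg : ((X : K[X]) ^ p ^ b + X).natDegree = p ^ b := by
    rw [natDegree_add_eq_left_of_natDegree_lt] <;> simp <;> omega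
  have hne : ((X : K[X]) ^ p ^ b + X) ≠ 0 := by
    intro h
    rw [h] at hdeg
    simp at hdeg
    omega
  rw [← hdeg]
  apply card_subtype_le_natDegree _ hne
  intro x hx
  rw [barHom_apply] at hx
  simp [hx]

/-- The fixed subgroup of the involution. -/
def fixSub (p : ℕ) [hp : Fact p.Prime] (K : Type*) [Field K] [Algebra (ZMod p) K] (b : ℕ) :
    AddSubgroup K where
  carrier := {x | barHom p K b x = x}
  add_mem' := by
    intro x y hx hy
    simp only [Set.mem_ofPred_eq] at hx hy ⊢
    rw [map_add, hx, hy]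
  zero_mem' := by simp
  neg_mem' := by
    intro x hx
    simp only [Set.mem_ofPred_eq] at hx ⊢
    rw [map_neg, hx]

/-- The anti-fixed subgroup of the involution. -/
def antiSub (p : ℕ) [hp : Fact p.Prime] (K : Type*) [Field K] [Algebra (ZMod p) K] (b : ℕ) :
    AddSubgroup K where
  carrier := {x | barHom p K b x = -x}
  add_mem' := by
    intro x y hx hy
    simp only [Set.mem_ofPred_eq] at hx hy ⊢
    rw [map_add, hx, hy]
    ring
  zero_mem' := by simp
  neg_mem' := by
    intro x hx
    simp only [Set.mem_ofPred_eq] at hx ⊢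
    rw [map_neg, hx]

omit [Finite K] in
theorem mem_fixSub {x : K} : x ∈ fixSub p K b ↔ barHom p K b x = x := Iff.rfl

omit [Finite K] in
theorem mem_antiSub {x : K} : x ∈ antiSub p K b ↔ barHom p K b x = -x := Iff.rfl

/-- `x ↦ x - x̄` -/
noncomputable def subBar (p : ℕ) [hp : Fact p.Prime] (K : Type*) [Field K] [Algebra (ZMod p) K]
    (b : ℕ) : K →+ K :=
  AddMonoidHom.id K - (barHom p K b).toAddMonoidHom

/-- `x ↦ x + x̄` -/
noncomputable def addBar (p : ℕ) [hp : Fact p.Prime] (K : Type*) [Field K] [Algebra (ZMod p) K]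
    (b : ℕ) : K →+ K :=
  AddMonoidHom.id K + (barHom p K b).toAddMonoidHom

omit [Finite K] in
theorem subBar_apply (x : K) : subBar p K b x = x - barHom p K b x := rfl

omit [Finite K] in
theorem addBar_apply (x : K) : addBar p K b x = x + barHom p K b x := rfl

include hb0 hK in
/-- The counting: both the kernels and images of `x ↦ x ± x̄` have `p ^ b` elements. -/
theorem card_main :
    Nat.card (fixSub p K b) = p ^ b ∧ Nat.card (antiSub p K b) = p ^ b ∧
      (∀ z, barHom p K b z = z → ∃ x, x + barHom p K b x = z) ∧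
      (∀ z, barHom p K b z = -z → ∃ x, x - barHom p K b x = z) := by
  classical
  have hp1 := hp.out
  have hpos : 0 < p ^ b := pow_pos hp1.pos _
  have hfix : Nat.card (fixSub p K b) ≤ p ^ b := card_fix_le b hb0
  have hanti : Nat.card (antiSub p K b) ≤ p ^ b := card_anti_le b hb0
  have hbar : ∀ x, barHom p K b (barHom p K b x) = x := barHom_barHom b hK
  -- `subBar`: kernel fixSub, range in antiSub
  have hkerS : (subBar p K b).ker = fixSub p K b := by
    ext x
    rw [AddMonoidHom.mem_ker, subBar_apply, sub_eq_zero, mem_fixSub]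
    exact eq_comm
  have hrS : (subBar p K b).range ≤ antiSub p K b := by
    rintro _ ⟨x, rfl⟩
    rw [mem_antiSub, subBar_apply, map_sub, hbar]
    ring
  have hkerA : (addBar p K b).ker = antiSub p K b := by
    ext x
    rw [AddMonoidHom.mem_ker, addBar_apply, mem_antiSub]
    constructor
    · intro h
      exact eq_neg_of_add_eq_zero_right h
    · intro h
      rw [h]
      ring
  have hrA : (addBar p K b).range ≤ fixSub p K b := by
    rintro _ ⟨x, rfl⟩
    rw [mem_fixSub, addBar_apply, map_add, hbar]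
    ring
  have hcS : Nat.card K = Nat.card (fixSub p K b) * Nat.card (subBar p K b).range := by
    rw [← hkerS, AddSubgroup.card_eq_card_quotient_mul_card_addSubgroup (subBar p K b).ker,
      mul_comm, Nat.card_congr (QuotientAddGroup.quotientKerEquivRange (subBar p K b)).toEquiv]
  have hcA : Nat.card K = Nat.card (antiSub p K b) * Nat.card (addBar p K b).range := by
    rw [← hkerA, AddSubgroup.card_eq_card_quotient_mul_card_addSubgroup (addBar p K b).ker,
      mul_comm, Nat.card_congr (QuotientAddGroup.quotientKerEquivRange (addBar p K b)).toEquiv]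
  have hK2 : Nat.card K = p ^ b * p ^ b := by rw [hK, two_mul, pow_add]
  haveI : Finite (antiSub p K b) := inferInstance
  have hle1 : Nat.card (subBar p K b).range ≤ Nat.card (antiSub p K b) :=
    AddSubgroup.card_le_of_le hrS
  have hle2 : Nat.card (addBar p K b).range ≤ Nat.card (fixSub p K b) :=
    AddSubgroup.card_le_of_le hrA
  have hf : Nat.card (fixSub p K b) = p ^ b := by
    apply le_antisymm hfix
    by_contra hlt
    push Not at hlt
    have : Nat.card K < p ^ b * p ^ b := by
      rw [hcS]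
      calc _ ≤ Nat.card (fixSub p K b) * p ^ b :=
            Nat.mul_le_mul_left _ (hle1.trans hanti)
        _ < _ := Nat.mul_lt_mul_of_pos_right hlt hpos
    omega
  have ha : Nat.card (antiSub p K b) = p ^ b := by
    apply le_antisymm hanti
    by_contra hlt
    push Not at hlt
    have : Nat.card K < p ^ b * p ^ b := by
      rw [hcA]
      calc _ ≤ Nat.card (antiSub p K b) * p ^ b :=
            Nat.mul_le_mul_left _ (hle2.trans hfix)
        _ < _ := Nat.mul_lt_mul_of_pos_right hlt hpos
    omega
  have hrS2 : (subBar p K b).range = antiSub p K b := by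
    apply AddSubgroup.eq_of_le_of_card_ge hrS
    have h1 : p ^ b * p ^ b = p ^ b * Nat.card (subBar p K b).range := by
      rw [← hK2, hcS, hf]
    have h2 := Nat.eq_of_mul_eq_mul_left hpos h1
    omega
  have hrA2 : (addBar p K b).range = fixSub p K b := by
    apply AddSubgroup.eq_of_le_of_card_ge hrA
    have h1 : p ^ b * p ^ b = p ^ b * Nat.card (addBar p K b).range := by
      rw [← hK2, hcA, ha]
    have h2 := Nat.eq_of_mul_eq_mul_left hpos h1
    omega
  refine ⟨hf, ha, ?_, ?_⟩
  · intro z hz
    have : z ∈ (addBar p K b).range := by rw [hrA2]; exact hz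
    obtain ⟨x, hx⟩ := this
    exact ⟨x, hx⟩
  · intro z hz
    have : z ∈ (subBar p K b).range := by rw [hrS2]; exact hz
    obtain ⟨x, hx⟩ := this
    exact ⟨x, hx⟩

include hb0 hK in
/-- Every element fixed by the involution is a norm. -/
theorem exists_norm (z : K) (hz : barHom p K b z = z) : ∃ x, x * barHom p K b x = z := by
  classical
  have hp1 := hp.out
  by_cases hz0 : z = 0
  · exact ⟨0, by simp [hz0]⟩
  haveI := Fintype.ofFinite K
  obtain ⟨g, hg⟩ := IsCyclic.exists_generator (α := Kˣ)
  have hq0 : 1 ≤ p ^ b := Nat.one_le_pow _ _ hp1.pos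
  let u : Kˣ := Units.mk0 z hz0
  obtain ⟨i, hi⟩ := mem_powers_iff_mem_zpowers.mpr (hg u)
  have hordg : orderOf g = p ^ b * p ^ b - 1 := by
    rw [orderOf_eq_card_of_forall_mem_zpowers hg, Nat.card_units, hK, two_mul, pow_add]
  have hzp : z ^ p ^ b = z := by rwa [barHom_apply] at hz
  have hup : u ^ (p ^ b - 1) = 1 := by
    apply Units.ext
    have h1 : z ^ (p ^ b - 1) * z = z := by
      rw [← pow_succ, Nat.sub_add_cancel hq0, hzp]
    have h2 : z ^ (p ^ b - 1) = 1 := mul_right_cancel₀ hz0 (by rw [h1, one_mul])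
    simpa [u] using h2
  have hdvd : p ^ b * p ^ b - 1 ∣ i * (p ^ b - 1) := by
    rw [← hordg]
    apply orderOf_dvd_of_pow_eq_one
    rw [pow_mul]
    have : g ^ i = u := hi
    rw [this, hup]
  have hfac : p ^ b * p ^ b - 1 = (p ^ b + 1) * (p ^ b - 1) := by
    obtain ⟨t, ht⟩ : ∃ t, p ^ b = t + 1 := ⟨p ^ b - 1, by omega⟩
    rw [ht]
    simp only [Nat.add_sub_cancel]
    ring_nf
    omega
  have hpos : 0 < p ^ b - 1 := by
    have : 2 ≤ p ^ b := by
      calc 2 ≤ p := hp1.two_le
        _ = p ^ 1 := (pow_one p).symm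
        _ ≤ p ^ b := Nat.pow_le_pow_right hp1.pos (Nat.pos_of_ne_zero hb0)
    omega
  rw [hfac] at hdvd
  have hdvd2 : p ^ b + 1 ∣ i := Nat.dvd_of_mul_dvd_mul_right hpos hdvd
  obtain ⟨j, rfl⟩ := hdvd2
  refine ⟨((g ^ j : Kˣ) : K), ?_⟩
  rw [barHom_apply, ← pow_succ']
  have h3 : ((g ^ ((p ^ b + 1) * j) : Kˣ) : K) = z := by
    have : g ^ ((p ^ b + 1) * j) = u := hi
    rw [this]
    rfl
  rw [← h3, mul_comm (p ^ b + 1) j, pow_mul]
  simp

end Even

end Cfsg.Agent.Lib.Schmidt4395
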