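import Cfsg.Agent.Lib.Schmidt4395.XStruct

/-!
The universal minimal non-`p`-nilpotent group: the universal map, and assembly.
-/

set_option autoImplicit false

namespace Cfsg.Agent.Lib.Schmidt4395

universe v u

variable {p q r : ℕ} [hp : Fact p.Prime] [hq : Fact q.Prime] [hN : NeZero (q ^ r)]

/-- The homomorphism `Z_N → ⟨x⟩`. -/
def powHom {G : Type*} [Group G] (x : G) (N : ℕ) [NeZero N] (hx : x ^ N = 1) :
    Multiplicative (ZMod N) →* G where
  toFun c := x ^ (Multiplicative.toAdd c).val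
  map_one' := by simp [ZMod.val_zero]
  map_mul' a b := by
    rw [← pow_add, toAdd_mul, ZMod.val_add]
    exact (pow_eq_pow_mod _ hx).symm

theorem powHom_apply {G : Type*} [Group G] (x : G) (N : ℕ) [NeZero N] (hx : x ^ N = 1)
    (c : Multiplicative (ZMod N)) : powHom x N hx c = x ^ (Multiplicative.toAdd c).val := rfl

section Universal

variable {K : Type*} [Field K] [Algebra (ZMod p) K] [Finite K] {ζ : K}

/-- The universal map. -/
theorem universal_map {A : Type v} [Group A] [Finite A] (D₀ : SData ζ A)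
    (hα : (D₀.γ : MulAut A) ^ (q ^ r) = 1) (a : ℕ) (ha : a = orderOf (p : ZMod q))
    (hK : Nat.card K = p ^ a) (h1 : ζ ^ q = 1) (h2 : ζ ≠ 1) (hpq : p ≠ q) (hr : 1 ≤ r)
    {X : Type u} [Group X] [Finite X]
    (hbound : ∀ (R : Type (max v u)) [Group R] [Finite R] (D : SData ζ R),
      Nat.card D.π.ker ≤ Nat.card D₀.π.ker)
    (hX1 : ¬ Cfsg.HasNormalPComplement p X)
    (hX2 : ∀ K : Subgroup X, K ≠ ⊤ → Cfsg.HasNormalPComplement p K) (t : ℕ)
    (hcard : Nat.card X = p ^ t * q ^ r) :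
    ∃ φ : (A ⋊[actHom D₀.γ (q ^ r) hα] Multiplicative (ZMod (q ^ r))) →* X,
      Function.Surjective φ ∧ φ.ker ≤ Subgroup.center _ := by
  classical
  have hq1 := hq.out
  have hp1 := hp.out
  have hζ0 : ζ ≠ 0 := by
    rintro rfl
    rw [zero_pow hq1.ne_zero] at h1
    exact zero_ne_one h1
  obtain ⟨P, y, hPn, hPp, hPcard, hy, hsup, hgood⟩ :=
    exists_structure (p := p) (q := q) (r := r) hpq hr hX1 hX2 t hcard
  obtain ⟨j, hj, DB, hDB⟩ := hgood.exists_sdata (p := p) a ha hK ζ h1 h2 hpq hPp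
  have hjc : Nat.Coprime (q ^ r) j :=
    Nat.Coprime.pow_left r ((Nat.Prime.coprime_iff_not_dvd hq1).mpr hj)
  set y' := y ^ j with hy'
  have hord' : orderOf y' = q ^ r := by
    rw [hy', Nat.Coprime.orderOf_pow (by rw [hy]; exact hjc), hy]
  have hy'1 : y' ^ (q ^ r) = 1 := by
    rw [← hord']
    exact pow_orderOf_eq_one _
  have hDB' : (DB.γ : MulAut P) = MulAut.conjNormal y' := by
    rw [hDB, hy', map_pow]
  obtain ⟨ψ, hψs, hψπ, hψγ⟩ := exists_psi D₀ DB h2 hζ0 (hbound _ (subRData D₀ DB h2 hζ0))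
  let φ₀ := actHom D₀.γ (q ^ r) hα
  have hφ₀ : ∀ c u, φ₀ c u = ((D₀.γ : MulAut A) ^ (Multiplicative.toAdd c).val) u := fun c u => rfl
  let f₁ : A →* X := P.subtype.comp ψ
  have hf₁ : ∀ u, f₁ u = (ψ u : X) := fun u => rfl
  let f₂ : Multiplicative (ZMod (q ^ r)) →* X := powHom y' (q ^ r) hy'1
  have hf₂ : ∀ c, f₂ c = y' ^ (Multiplicative.toAdd c).val := fun c => rfl
  have hψpow : ∀ (n : ℕ) (u : A),
      ((ψ (((D₀.γ : MulAut A) ^ n) u) : P) : X) = y' ^ n * (ψ u : X) * (y' ^ n)⁻¹ := by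
    intro n
    induction n with
    | zero => intro u; simp
    | succ n ih =>
      intro u
      rw [pow_succ', MulAut.mul_apply]
      change ((ψ (D₀.γ (((D₀.γ : MulAut A) ^ n) u)) : P) : X) = _
      rw [hψγ]
      have e : DB.γ (ψ (((D₀.γ : MulAut A) ^ n) u)) =
          MulAut.conjNormal y' (ψ (((D₀.γ : MulAut A) ^ n) u)) := by
        rw [← hDB']
      rw [e, MulAut.conjNormal_apply, ih, pow_succ']
      group
  have hcompat : ∀ c, f₁.comp (φ₀ c).toMonoidHom = (MulAut.conj (f₂ c)).toMonoidHom.comp f₁ := by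
    intro c
    ext u
    change ((ψ (φ₀ c u) : P) : X) = f₂ c * (ψ u : X) * (f₂ c)⁻¹
    rw [hφ₀, hψpow, hf₂]
  let φ := SemidirectProduct.lift f₁ f₂ hcompat
  have hφdec : ∀ g : A ⋊[φ₀] Multiplicative (ZMod (q ^ r)),
      φ g = (ψ g.left : X) * y' ^ (Multiplicative.toAdd g.right).val := by
    intro g
    conv_lhs => rw [← SemidirectProduct.inl_left_mul_inr_right g]
    rw [map_mul, SemidirectProduct.lift_inl, SemidirectProduct.lift_inr, hf₁, hf₂]
  refine ⟨φ, ?_, ?_⟩
  · -- surjectivity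
    have hr1 : Fact (1 < q ^ r) := ⟨Nat.one_lt_pow (by omega) hq1.one_lt⟩
    have hPle : P ≤ φ.range := by
      intro u hu
      obtain ⟨w, hw⟩ := hψs ⟨u, hu⟩
      refine ⟨SemidirectProduct.inl w, ?_⟩
      rw [SemidirectProduct.lift_inl, hf₁, hw]
    have hy'r : y' ∈ φ.range := by
      refine ⟨SemidirectProduct.inr (Multiplicative.ofAdd 1), ?_⟩
      rw [SemidirectProduct.lift_inr, hf₂]
      change y' ^ ZMod.val (1 : ZMod (q ^ r)) = y'
      rw [ZMod.val_one, pow_one]
    have hyr : y ∈ φ.range := by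
      obtain ⟨m, -, hm⟩ := Nat.exists_mul_mod_eq_one_of_coprime hjc.symm hr1.out
      have e : y = y' ^ m := by
        rw [hy', ← pow_mul]
        have := pow_eq_pow_mod (j * m) (show y ^ (q ^ r) = 1 by
          rw [← hy]
          exact pow_orderOf_eq_one _)
        rw [hm, pow_one] at this
        exact this.symm
      rw [e]
      exact φ.range.pow_mem hy'r m
    have htop : φ.range = ⊤ := by
      rw [eq_top_iff, ← hsup]
      apply sup_le hPle
      rw [Subgroup.zpowers_le]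
      exact hyr
    exact MonoidHom.range_eq_top.mp htop
  · -- the kernel is central
    intro g hg
    have hg1 : (ψ g.left : X) * y' ^ (Multiplicative.toAdd g.right).val = 1 := by
      rw [← hφdec]
      exact hg
    set n := (Multiplicative.toAdd g.right).val with hn
    have hmem : y' ^ n ∈ P := by
      have e : y' ^ n = (ψ g.left : X)⁻¹ := eq_inv_of_mul_eq_one_right hg1
      rw [e]
      exact P.inv_mem (ψ g.left).2
    obtain ⟨k, hk⟩ := hPp ⟨_, hmem⟩
    have hk' : (y' ^ n) ^ p ^ k = 1 := congrArg Subtype.val hk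
    have h3 : orderOf (y' ^ n) ∣ p ^ k := orderOf_dvd_of_pow_eq_one hk'
    have h4 : orderOf (y' ^ n) ∣ q ^ r := by
      rw [← hord']
      exact orderOf_pow_dvd n
    have hcop : Nat.Coprime (p ^ k) (q ^ r) :=
      Nat.Coprime.pow _ _ ((Nat.coprime_primes hp1 hq1).mpr hpq)
    have h5 : y' ^ n = 1 := orderOf_eq_one_iff.mp (Nat.eq_one_of_dvd_coprimes hcop h3 h4)
    have h6 : q ^ r ∣ n := by
      rw [← hord']
      exact orderOf_dvd_of_pow_eq_one h5
    have hnlt : n < q ^ r := ZMod.val_lt _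
    have hn0 : n = 0 := Nat.eq_zero_of_dvd_of_lt h6 hnlt
    have hright : g.right = 1 := by
      have h7 : Multiplicative.toAdd g.right = 0 := (ZMod.val_eq_zero _).mp hn0
      exact h7
    have hψ1 : ψ g.left = 1 := by
      rw [h5, mul_one] at hg1
      exact Subtype.ext hg1
    have hπ1 : D₀.π g.left = 1 := by
      rw [← hψπ, hψ1, map_one]
    set u := g.left with hu
    have hucen := D₀.cen u hπ1
    have hufix := D₀.fix u hπ1
    have hgdec : g = SemidirectProduct.inl u := by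
      conv_lhs => rw [← SemidirectProduct.inl_left_mul_inr_right g]
      rw [hright, map_one, mul_one]
    rw [hgdec, Subgroup.mem_center_iff]
    intro h
    rw [← SemidirectProduct.inl_left_mul_inr_right h]
    have h7 : φ₀ h.right u = u := by
      rw [hφ₀]
      exact pow_apply_of_fixed D₀.toSBase u hufix _
    have h8 : (SemidirectProduct.inr h.right : A ⋊[φ₀] Multiplicative (ZMod (q ^ r))) *
        SemidirectProduct.inl u = SemidirectProduct.inl u * SemidirectProduct.inr h.right := by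
      have := SemidirectProduct.inl_aut (φ := φ₀) h.right u
      rw [h7, map_inv] at this
      calc (SemidirectProduct.inr h.right : A ⋊[φ₀] Multiplicative (ZMod (q ^ r))) *
            SemidirectProduct.inl u
          = (SemidirectProduct.inr h.right * SemidirectProduct.inl u *
              (SemidirectProduct.inr h.right)⁻¹) * SemidirectProduct.inr h.right := by group
        _ = _ := by rw [← this]
    have h9 : (SemidirectProduct.inl h.left : A ⋊[φ₀] Multiplicative (ZMod (q ^ r))) *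
        SemidirectProduct.inl u = SemidirectProduct.inl u * SemidirectProduct.inl h.left := by
      rw [← map_mul, ← map_mul, Subgroup.mem_center_iff.mp hucen h.left]
    rw [mul_assoc, h8, ← mul_assoc, h9, mul_assoc]

/-- Assembling. -/
theorem pack {A : Type} [Group A] [Finite A] (D₀ : SData ζ A) (a : ℕ)
    (ha : a = orderOf (p : ZMod q)) (hK : Nat.card K = p ^ a) (h1 : ζ ^ q = 1) (h2 : ζ ≠ 1)
    (hpq : p ≠ q) (hr : 1 ≤ r) (a₀ : ℕ) (hcardA : Nat.card A = p ^ a₀)
    (hγq : (D₀.γ : MulAut A) ^ q = 1) (hcomm : ∀ r, D₀.π r = 1 → r ∈ commutator A)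
    (hbound : ∀ (R : Type u) [Group R] [Finite R] (D : SData ζ R),
      Nat.card D.π.ker ≤ Nat.card D₀.π.ker) :
    ∃ (G₀ : Type u) (_ : Group G₀) (_ : Finite G₀),
      (¬ Cfsg.HasNormalPComplement p G₀ ∧
        ∀ K : Subgroup G₀, K ≠ ⊤ → Cfsg.HasNormalPComplement p ↥K) ∧
      Nat.card G₀ = p ^ a₀ * q ^ r ∧
      ∀ (X : Type u) [Group X] [Finite X], (¬ Cfsg.HasNormalPComplement p X ∧
        ∀ K : Subgroup X, K ≠ ⊤ → Cfsg.HasNormalPComplement p ↥K) →
        (∃ t : ℕ, Nat.card X = p ^ t * q ^ r) →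
        ∃ φ : G₀ →* X, Function.Surjective φ ∧ φ.ker ≤ Subgroup.center G₀ := by
  classical
  have hq1 := hq.out
  have hα : (D₀.γ : MulAut A) ^ (q ^ r) = 1 := by
    obtain ⟨s, rfl⟩ : ∃ s, r = s + 1 := ⟨r - 1, by omega⟩
    rw [pow_succ', pow_mul, hγq, one_pow]
  have hA : IsPGroup p A := IsPGroup.of_card hcardA
  let G' := A ⋊[actHom D₀.γ (q ^ r) hα] Multiplicative (ZMod (q ^ r))
  have hFin : Finite G' := semidirect_finite
  let e : ULift.{u} G' ≃* G' := MulEquiv.ulift
  refine ⟨ULift.{u} G', inferInstance, inferInstance, ⟨?_, ?_⟩, ?_, ?_⟩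
  · intro h
    exact not_npc D₀.toSBase hpq hr hA h2 hα
      (Cfsg.Agent.Lib.Transfer.Basic.hasNormalPComplement_of_mulEquiv e h)
  · intro L hL
    have hne : L.map e.toMonoidHom ≠ ⊤ := by
      intro h3
      apply hL
      rw [eq_top_iff]
      intro g _
      have h4 : e g ∈ L.map e.toMonoidHom := by rw [h3]; trivial
      obtain ⟨w, hw, hwg⟩ := h4
      have h5 : w = g := e.injective hwg
      rwa [← h5]
    have h3 := npc_of_ne_top D₀.toSBase a ha hK hpq hr hA h1 h2 hcomm hγq hα _ hne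
    exact Cfsg.Agent.Lib.Transfer.Basic.hasNormalPComplement_of_mulEquiv (e.subgroupMap L).symm h3
  · rw [Nat.card_ulift, SemidirectProduct.card, hcardA]
    congr 1
    change Nat.card (ZMod (q ^ r)) = _
    simp
  · intro X _ _ hX ht
    obtain ⟨hX1, hX2⟩ := hX
    obtain ⟨t, ht⟩ := ht
    obtain ⟨φ, hs, hk⟩ := universal_map D₀ hα a ha hK h1 h2 hpq hr hbound hX1 hX2 t ht
    refine ⟨φ.comp e.toMonoidHom, hs.comp e.surjective, ?_⟩
    intro g hg
    rw [Subgroup.mem_center_iff]
    intro h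
    apply e.injective
    rw [map_mul, map_mul]
    exact Subgroup.mem_center_iff.mp (hk hg) (e h)

end Universal

section Final

/-- The `q`-th power of the action on `K` is trivial. -/
theorem addBase_pow {K : Type*} [Field K] (ζ : K) (hζ0 : ζ ≠ 0) {q : ℕ} (h1 : ζ ^ q = 1) :
    ((addBase ζ hζ0).γ : MulAut (Multiplicative K)) ^ q = 1 := by
  apply MulEquiv.ext
  intro x
  have := (addBase ζ hζ0).pi_pow q x
  rw [h1] at this
  simpa [addBase] using this

/-- The `q`-th power of the action on `U3` is trivial. -/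
theorem u3Base_pow {K : Type*} [Field K] {p q : ℕ} [hp : Fact p.Prime] [Algebra (ZMod p) K]
    [Finite K] (b : ℕ) (hb0 : b ≠ 0) (hK : Nat.card K = p ^ (2 * b))
    [Fact (∀ x : K, barHom p K b (barHom p K b x) = x)]
    (ζ : K) (hζ : ζ * barHom p K b ζ = 1) (hζ0 : ζ ≠ 0) (h1 : ζ ^ q = 1) :
    ((u3Base (p := p) b hb0 hK ζ hζ hζ0).γ : MulAut (U3 (barHom p K b))) ^ q = 1 := by
  set D := u3Base (p := p) b hb0 hK ζ hζ hζ0 with hD
  have hs : ∀ (n : ℕ) (r : U3 (barHom p K b)), (((D.γ : MulAut _) ^ n) r).s = r.s := by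
    intro n
    induction n with
    | zero => intro r; rfl
    | succ n ih =>
      intro r
      rw [pow_succ', MulAut.mul_apply]
      change (D.γ (((D.γ : MulAut _) ^ n) r)).s = r.s
      rw [← ih r]
      rfl
  apply MulEquiv.ext
  intro r
  apply U3.ext
  · have := D.pi_pow q r
    rw [h1, one_mul] at this
    exact Multiplicative.ofAdd.injective this
  · exact hs q r

/-- The main theorem. -/
theorem schmidt_main (p q r : ℕ) [Fact p.Prime] [hq : Fact q.Prime] (hpq : p ≠ q) (hr : 1 ≤ r)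
    (a a₀ : ℕ) (ha : a = orderOf (p : ZMod q))
    (ha₀ : a₀ = if a % 2 = 1 then a else 3 * a / 2) :
    ∃ (G₀ : Type u) (_ : Group G₀) (_ : Finite G₀),
      (¬ Cfsg.HasNormalPComplement p G₀ ∧
        ∀ K : Subgroup G₀, K ≠ ⊤ → Cfsg.HasNormalPComplement p ↥K) ∧
      Nat.card G₀ = p ^ a₀ * q ^ r ∧
      ∀ (X : Type u) [Group X] [Finite X], (¬ Cfsg.HasNormalPComplement p X ∧
        ∀ K : Subgroup X, K ≠ ⊤ → Cfsg.HasNormalPComplement p ↥K) →
        (∃ t : ℕ, Nat.card X = p ^ t * q ^ r) →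
        ∃ φ : G₀ →* X, Function.Surjective φ ∧ φ.ker ≤ Subgroup.center G₀ := by
  classical
  have hq1 := hq.out
  haveI hNZ : NeZero (q ^ r) := ⟨pow_ne_zero _ hq1.ne_zero⟩
  have ha0 : a ≠ 0 := by
    rw [ha]
    have hp0 : (p : ZMod q) ≠ 0 := by
      intro h
      have := (ZMod.natCast_eq_zero_iff p q).mp h
      exact hpq ((Nat.prime_dvd_prime_iff_eq hq1 Fact.out).mp this).symm
    apply (orderOf_pos_iff.mpr _).ne'
    rw [isOfFinOrder_iff_pow_eq_one]
    exact ⟨q - 1, Nat.sub_pos_of_lt hq1.one_lt, ZMod.pow_card_sub_one_eq_one hp0⟩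
  let K := GaloisField p a
  have hK : Nat.card K = p ^ a := GaloisField.card p a ha0
  haveI hKf : Finite K := inferInstance
  obtain ⟨ζ, h1, h2⟩ := exists_zeta (p := p) (q := q) (K := K) a ha hK
  have hζ0 : ζ ≠ 0 := by
    rintro rfl
    rw [zero_pow hq1.ne_zero] at h1
    exact zero_ne_one h1
  by_cases hodd : a % 2 = 1
  · rw [if_pos hodd] at ha₀
    have hcomm : ∀ r, (addBase ζ hζ0).π r = 1 → r ∈ commutator (Multiplicative K) := by
      intro r hr
      have : r = 1 := hr
      rw [this]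
      exact Subgroup.one_mem _
    let D₀ : SData ζ (Multiplicative K) :=
      { toSBase := addBase ζ hζ0
        gen := (addBase ζ hζ0).gen_of_comm h2 hcomm }
    refine pack (p := p) (q := q) (r := r) D₀ a ha hK h1 h2 hpq hr a₀ ?_ (addBase_pow ζ hζ0 h1) hcomm ?_
    · change Nat.card K = _
      rw [ha₀]
      exact hK
    · intro R _ _ D
      exact (bound_odd (p := p) (q := q) a ha hK (Nat.odd_iff.mpr hodd) h1 h2 D).trans
        Nat.card_pos
  · rw [if_neg hodd] at ha₀
    obtain ⟨b, hb⟩ : ∃ b, a = 2 * b := ⟨a / 2, by omega⟩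
    have hb0 : b ≠ 0 := by
      rintro rfl
      exact ha0 (by omega)
    have ha₀' : a₀ = 3 * b := by
      rw [ha₀, hb]
      omega
    have hK' : Nat.card K = p ^ (2 * b) := by rw [hK, hb]
    have ha' : 2 * b = orderOf (p : ZMod q) := by rw [← hb]; exact ha
    haveI hFact : Fact (∀ x : K, barHom p K b (barHom p K b x) = x) := ⟨barHom_barHom b hK'⟩
    have hζbar : barHom p K b ζ = ζ⁻¹ := by
      rw [barHom_apply]
      exact zeta_pow_eq_inv (q := q) b hb0 ha' ζ h1 h2
    have hζ : ζ * barHom p K b ζ = 1 := by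
      rw [hζbar]
      exact mul_inv_cancel₀ hζ0
    have hcomm : ∀ r, (u3Base (p := p) b hb0 hK' ζ hζ hζ0).π r = 1 →
        r ∈ commutator (U3 (barHom p K b)) := by
      intro r hr
      apply u3_comm (p := p) b hb0 hK' r
      have : Multiplicative.ofAdd r.x = 1 := hr
      simpa using this
    let D₀ : SData ζ (U3 (barHom p K b)) :=
      { toSBase := u3Base (p := p) b hb0 hK' ζ hζ hζ0
        gen := (u3Base (p := p) b hb0 hK' ζ hζ hζ0).gen_of_comm h2 hcomm }
    obtain ⟨hcard1, hcard2⟩ := u3_card (p := p) b hb0 hK' ζ hζ hζ0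
    refine pack (p := p) (q := q) (r := r) D₀ a ha hK h1 h2 hpq hr a₀ ?_
      (u3Base_pow (p := p) b hb0 hK' ζ hζ hζ0 h1) hcomm ?_
    · rw [hcard2, ha₀']
    · intro R _ _ D
      have hspan : ∀ S : AddSubgroup K, (1 : K) ∈ S → (∀ x ∈ S, ζ * x ∈ S) → S = ⊤ :=
        fun S hS1 hSω => span_top (p := p) (q := q) a ha hK ζ h1 h2 S hS1 hSω
      have := bound_even (p := p) b hb0 hK' hζbar hζ0 hspan D
      exact this.trans (le_of_eq hcard1.symm)

end Final

end Cfsg.Agent.Lib.Schmidt4395
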