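import Cfsg.Agent.Lib.Schmidt4395.Semi

/-!
A simple `F_p⟨η⟩`-module with `η ^ q = 1`, `η ≠ 1` is `K` with `η` acting as some `ω`.
-/

set_option autoImplicit false

namespace Cfsg.Agent.Lib.Schmidt4395

open Polynomial

variable {p q : ℕ} [hp : Fact p.Prime] [hq : Fact q.Prime]
variable {K : Type*} [Field K] [Algebra (ZMod p) K] [Finite K]

theorem exists_root_of_dvd (ζ : K) (h1 : ζ ^ q = 1) (h2 : ζ ≠ 1) (m : (ZMod p)[X])
    (hm : m ∣ X ^ q - 1) (hm0 : m ≠ 0) (hmu : ¬ IsUnit m) :
    ∃ ω : K, aeval ω m = 0 := by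
  have hq1 := hq.out
  have hprim : IsPrimitiveRoot ζ q := by
    have := IsPrimitiveRoot.orderOf ζ
    rwa [orderOf_eq_prime h1 h2] at this
  have hsp : (X ^ q - C (1 : K)).Splits :=
    X_pow_sub_C_splits_of_isPrimitiveRoot hprim (α := 1) (one_pow _)
  have hdvd : m.map (algebraMap (ZMod p) K) ∣ X ^ q - C 1 := by
    have := Polynomial.map_dvd (algebraMap (ZMod p) K) hm
    simpa using this
  have hsp2 := hsp.of_dvd (X_pow_sub_C_ne_zero hq1.pos 1) hdvd
  have hdeg : (m.map (algebraMap (ZMod p) K)).degree ≠ 0 := by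
    rw [degree_map]
    intro h
    exact hmu (Polynomial.isUnit_iff_degree_eq_zero.mpr h)
  obtain ⟨ω, hω⟩ := hsp2.exists_eval_eq_zero hdeg
  refine ⟨ω, ?_⟩
  rw [aeval_def, eval₂_eq_eval_map]
  exact hω

/-- The module isomorphism. -/
theorem exists_module_iso (a : ℕ) (ha : a = orderOf (p : ZMod q)) (hK : Nat.card K = p ^ a)
    (ζ : K) (h1 : ζ ^ q = 1) (h2 : ζ ≠ 1)
    {W : Type*} [AddCommGroup W] [Module (ZMod p) W] (η : Module.End (ZMod p) W)
    (hηq : η ^ q = 1) (hη1 : η ≠ 1)
    (hsimple : ∀ U : AddSubgroup W, (∀ u ∈ U, η u ∈ U) → U = ⊥ ∨ U = ⊤) :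
    ∃ (ω : K) (f : K ≃+ W), ω ^ q = 1 ∧ ω ≠ 1 ∧ ∀ x, f (ω * x) = η (f x) := by
  classical
  have hq1 := hq.out
  obtain ⟨w₀, hw₀⟩ : ∃ w₀ : W, w₀ ≠ 0 := by
    by_contra h
    push Not at h
    apply hη1
    ext w
    rw [h (η w)]
    exact (h _).symm
  let I₂ : Ideal (ZMod p)[X] :=
    { carrier := {g | aeval η g w₀ = 0}
      add_mem' := by
        intro f g hf hg
        change aeval η (f + g) w₀ = 0
        have hf' : aeval η f w₀ = 0 := hf
        have hg' : aeval η g w₀ = 0 := hg
        rw [map_add, LinearMap.add_apply, hf', hg', add_zero]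
      zero_mem' := by
        change aeval η (0 : (ZMod p)[X]) w₀ = 0
        simp
      smul_mem' := by
        intro c g hg
        change aeval η (c * g) w₀ = 0
        have hg' : aeval η g w₀ = 0 := hg
        rw [map_mul, Module.End.mul_apply, hg', map_zero] }
  have hI₂ : ∀ g, g ∈ I₂ ↔ aeval η g w₀ = 0 := fun g => Iff.rfl
  obtain ⟨m, hm⟩ := (IsPrincipalIdealRing.principal I₂).principal
  have hmem : ∀ g, g ∈ I₂ ↔ m ∣ g := by
    intro g
    rw [hm]
    exact Ideal.mem_span_singleton
  have hXq : (X ^ q - 1 : (ZMod p)[X]) ∈ I₂ := by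
    rw [hI₂]
    simp [hηq]
  have hmdvd : m ∣ X ^ q - 1 := (hmem _).mp hXq
  have hXq0 : (X ^ q - 1 : (ZMod p)[X]) ≠ 0 := X_pow_sub_C_ne_zero hq1.pos 1
  have hm0 : m ≠ 0 := by
    rintro rfl
    exact hXq0 (zero_dvd_iff.mp hmdvd)
  have hmu : ¬ IsUnit m := by
    intro hu
    have : (1 : (ZMod p)[X]) ∈ I₂ := (hmem 1).mpr hu.dvd
    rw [hI₂] at this
    simp at this
    exact hw₀ this
  obtain ⟨ω, hω⟩ := exists_root_of_dvd (p := p) (q := q) ζ h1 h2 m hmdvd hm0 hmu
  have hωq : ω ^ q = 1 := by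
    obtain ⟨n, hn⟩ := hmdvd
    have := congrArg (aeval ω : (ZMod p)[X] →ₐ[ZMod p] K) hn
    simp [hω] at this
    exact sub_eq_zero.mp this
  -- the two kernels agree
  have hle : ∀ g : (ZMod p)[X], aeval η g w₀ = 0 → aeval ω g = 0 := by
    intro g hg
    obtain ⟨n, rfl⟩ := (hmem g).mp hg
    rw [map_mul, hω, zero_mul]
  let φ₂ : (ZMod p)[X] →+ W :=
    { toFun := fun g => aeval η g w₀
      map_zero' := by simp
      map_add' := by intro f g; simp }
  have hφ : ∀ g, φ₂ g = aeval η g w₀ := fun g => rfl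
  have hφX : ∀ g, φ₂ (X * g) = η (φ₂ g) := by
    intro g
    simp [hφ]
  have hge : ∀ g : (ZMod p)[X], aeval ω g = 0 → aeval η g w₀ = 0 := by
    intro g hg
    let U : AddSubgroup W := (AddMonoidHom.ker (aeval ω : (ZMod p)[X] →ₐ[ZMod p] K).toRingHom.toAddMonoidHom).map φ₂
    have hUinv : ∀ u ∈ U, η u ∈ U := by
      rintro u ⟨g', hg', rfl⟩
      refine ⟨X * g', ?_, hφX g'⟩
      have hg'' : aeval ω g' = 0 := hg'
      change aeval ω (X * g') = 0
      rw [map_mul, hg'', mul_zero]
    rcases hsimple U hUinv with hU | hU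
    · have : φ₂ g ∈ U := ⟨g, hg, rfl⟩
      rw [hU] at this
      exact this
    · exfalso
      have : w₀ ∈ U := by rw [hU]; trivial
      obtain ⟨g', hg', hg'w⟩ := this
      have hg'' : aeval ω g' = 0 := hg'
      have h3 : aeval η (1 - g') w₀ = 0 := by
        rw [map_sub, LinearMap.sub_apply, map_one]
        change w₀ - φ₂ g' = 0
        rw [hg'w, sub_self]
      have h4 := hle _ h3
      rw [map_sub, map_one, hg'', sub_zero] at h4
      exact one_ne_zero h4
  have hω1 : ω ≠ 1 := by
    intro hω1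
    have h3 : aeval η (X - 1 : (ZMod p)[X]) w₀ = 0 := hge _ (by simp [hω1])
    have h4 : η w₀ = w₀ := by
      simp only [map_sub, aeval_X, map_one, LinearMap.sub_apply, Module.End.one_apply] at h3
      exact sub_eq_zero.mp h3
    let U : AddSubgroup W :=
      { carrier := {w | η w = w}
        add_mem' := by
          intro x y hx hy
          change η (x + y) = x + y
          have hx' : η x = x := hx
          have hy' : η y = y := hy
          rw [map_add, hx', hy']
        zero_mem' := by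
          change η 0 = 0
          simp
        neg_mem' := by
          intro x hx
          change η (-x) = -x
          have hx' : η x = x := hx
          rw [map_neg, hx'] }
    rcases hsimple U (fun u hu => by
        change η (η u) = η u
        have hu' : η u = u := hu
        rw [hu', hu']) with hU | hU
    · have : w₀ ∈ U := h4
      rw [hU] at this
      exact hw₀ this
    · apply hη1
      ext w
      have : w ∈ U := by rw [hU]; trivial
      exact this
  -- the evaluation at `ω` is surjective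
  have hsurj : Function.Surjective (aeval ω : (ZMod p)[X] →ₐ[ZMod p] K) := by
    intro x
    let S : AddSubgroup K := (aeval ω : (ZMod p)[X] →ₐ[ZMod p] K).toRingHom.toAddMonoidHom.range
    have hS : S = ⊤ := by
      apply span_top (p := p) (q := q) a ha hK ω hωq hω1
      · exact ⟨1, by simp⟩
      · rintro y ⟨g, rfl⟩
        refine ⟨X * g, ?_⟩
        simp
    have : x ∈ S := by rw [hS]; trivial
    obtain ⟨g, hg⟩ := this
    exact ⟨g, hg⟩
  let s : K → (ZMod p)[X] := Function.surjInv hsurj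
  have hs : ∀ x, aeval ω (s x) = x := Function.surjInv_eq hsurj
  have hkey : ∀ g g' : (ZMod p)[X], aeval ω g = aeval ω g' → φ₂ g = φ₂ g' := by
    intro g g' hgg
    have h3 : aeval ω (g - g') = 0 := by rw [map_sub, hgg, sub_self]
    have h4 := hge _ h3
    rw [map_sub, LinearMap.sub_apply] at h4
    exact sub_eq_zero.mp h4
  let f₀ : K →+ W :=
    { toFun := fun x => φ₂ (s x)
      map_zero' := by
        have := hkey (s 0) 0 (by rw [hs, map_zero])
        rw [this, map_zero]
      map_add' := by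
        intro x y
        rw [← map_add]
        exact hkey _ _ (by rw [hs, map_add, hs, hs]) }
  have hf₀ : ∀ x, f₀ x = φ₂ (s x) := fun x => rfl
  have hf₀g : ∀ g : (ZMod p)[X], f₀ (aeval ω g) = φ₂ g := fun g => hkey _ _ (hs _)
  have hinj : Function.Injective f₀ := by
    rw [injective_iff_map_eq_zero]
    intro x hx
    rw [hf₀] at hx
    have := hle _ hx
    rwa [hs] at this
  have hsurj2 : Function.Surjective f₀ := by
    intro w
    let U : AddSubgroup W := φ₂.range
    have hU : U = ⊤ := by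
      rcases hsimple U (by
          rintro u ⟨g, rfl⟩
          exact ⟨X * g, hφX g⟩) with h3 | h3
      · exfalso
        have : w₀ ∈ U := ⟨1, by simp [hφ]⟩
        rw [h3] at this
        exact hw₀ this
      · exact h3
    have : w ∈ U := by rw [hU]; trivial
    obtain ⟨g, rfl⟩ := this
    exact ⟨aeval ω g, hf₀g g⟩
  refine ⟨ω, AddEquiv.ofBijective f₀ ⟨hinj, hsurj2⟩, hωq, hω1, ?_⟩
  intro x
  change f₀ (ω * x) = η (f₀ x)
  obtain ⟨g, rfl⟩ := hsurj x
  have : ω * aeval ω g = aeval ω (X * g) := by simp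
  rw [this, hf₀g, hf₀g, hφX]

end Cfsg.Agent.Lib.Schmidt4395
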