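import Cfsg.Agent.Lib.Schmidt4395.Uni
import Cfsg.Prelude.Def_Transfer

/-!
The group `G₀ = P₀ ⋊ Z_{q^r}` is minimal non-`p`-nilpotent.
-/

set_option autoImplicit false

namespace Cfsg.Agent.Lib.Schmidt4395

universe v u

open scoped commutatorElement

/-- Elements of order prime to `p` lie in a normal `p`-complement. -/
theorem mem_complement_of_coprime {G : Type*} [Group G] [Finite G] {p : ℕ} [hp : Fact p.Prime]
    (P : Sylow p G) (N : Subgroup G) (hN : N.Normal) (h : N.IsComplement' (P : Subgroup G)) (g : G)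
    (hg : Nat.Coprime (orderOf g) p) : g ∈ N := by
  obtain ⟨k, hk⟩ := IsPGroup.iff_card.mp P.isPGroup'
  have h1 : orderOf (QuotientGroup.mk' N g) ∣ orderOf g := orderOf_map_dvd _ _
  have h2 : orderOf (QuotientGroup.mk' N g) ∣ p ^ k := by
    rw [← hk, ← h.symm.index_eq_card]
    exact orderOf_dvd_natCard _
  have h3 : Nat.Coprime (orderOf g) (p ^ k) := Nat.Coprime.pow_right k hg
  have h4 := Nat.eq_one_of_dvd_coprimes h3 h1 h2
  rw [orderOf_eq_one_iff] at h4
  exact (QuotientGroup.eq_one_iff g).mp h4

/-- A normal `p`-complement has order prime to `p`. -/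
theorem complement_card_coprime {G : Type*} [Group G] [Finite G] {p : ℕ} [hp : Fact p.Prime]
    (P : Sylow p G) (N : Subgroup G) (h : N.IsComplement' (P : Subgroup G)) :
    Nat.Coprime (Nat.card N) p := by
  have h1 : Nat.card N = (P : Subgroup G).index := h.index_eq_card.symm
  rw [h1]
  have h2 := P.card_coprime_index
  obtain ⟨k, hk⟩ := IsPGroup.iff_card.mp P.isPGroup'
  by_cases hk0 : k = 0
  · -- trivial Sylow subgroup: the index is prime to `p` anyway
    have hnd : ¬ p ∣ (P : Subgroup G).index := P.not_dvd_index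
    exact ((Nat.Prime.coprime_iff_not_dvd hp.out).mpr hnd).symm
  · have hnd : ¬ p ∣ (P : Subgroup G).index := P.not_dvd_index
    exact ((Nat.Prime.coprime_iff_not_dvd hp.out).mpr hnd).symm

instance semidirect_finite {N H : Type*} [Group N] [Group H] [Finite N] [Finite H]
    {φ : H →* MulAut N} : Finite (N ⋊[φ] H) :=
  Finite.of_equiv _ SemidirectProduct.equivProd.symm

section

variable {K : Type*} [Field K] {ζ : K} {A : Type v} [Group A]

/-- The action of `Z_N` via powers of `α`. -/
def actHom (α : A ≃* A) (N : ℕ) [NeZero N] (hα : (α : MulAut A) ^ N = 1) :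
    Multiplicative (ZMod N) →* MulAut A where
  toFun c := (α : MulAut A) ^ (Multiplicative.toAdd c).val
  map_one' := by simp [ZMod.val_zero]
  map_mul' a b := by
    rw [← pow_add, toAdd_mul, ZMod.val_add]
    exact (pow_eq_pow_mod _ hα).symm

theorem actHom_apply (α : A ≃* A) (N : ℕ) [NeZero N] (hα : (α : MulAut A) ^ N = 1)
    (c : Multiplicative (ZMod N)) :
    actHom α N hα c = (α : MulAut A) ^ (Multiplicative.toAdd c).val := rfl

variable (D : SBase ζ A)

/-- `γ ^ k` acts on `K` as `ζ ^ k`. -/
theorem SBase.pi_pow (k : ℕ) (u : A) :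
    D.π (((D.γ : MulAut A) ^ k) u) =
      Multiplicative.ofAdd (ζ ^ k * Multiplicative.toAdd (D.π u)) := by
  induction k generalizing u with
  | zero => simp
  | succ n ih =>
    rw [pow_succ', MulAut.mul_apply]
    change D.π (D.γ (((D.γ : MulAut A) ^ n) u)) = _
    rw [D.equiv, ih]
    simp only [toAdd_ofAdd]
    congr 1
    ring

/-- An invariant subgroup lies in the kernel or is everything. -/
theorem SBase.dichotomy {p q : ℕ} [hp : Fact p.Prime] [hq : Fact q.Prime] [Finite K]
    [Algebra (ZMod p) K] (a : ℕ) (ha : a = orderOf (p : ZMod q)) (hK : Nat.card K = p ^ a)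
    (hcomm : ∀ r, D.π r = 1 → r ∈ commutator A)
    (U : Subgroup A) (ζ' : K) (h1 : ζ' ^ q = 1) (h2 : ζ' ≠ 1)
    (hU : ∀ u ∈ U, ∃ v ∈ U, D.π v = Multiplicative.ofAdd (ζ' * Multiplicative.toAdd (D.π u))) :
    U ≤ D.π.ker ∨ U = ⊤ := by
  by_cases h : U ≤ D.π.ker
  · exact Or.inl h
  right
  obtain ⟨u₀, hu₀, hu₀1⟩ := SetLike.not_le_iff_exists.mp h
  set x₀ := Multiplicative.toAdd (D.π u₀) with hx₀
  have hx₀0 : x₀ ≠ 0 := by
    intro h0
    apply hu₀1
    rw [MonoidHom.mem_ker]
    have : D.π u₀ = Multiplicative.ofAdd x₀ := rfl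
    rw [this, h0]
    rfl
  -- the image of `U` is everything
  let S : AddSubgroup K :=
    { carrier := {x | ∃ u ∈ U, D.π u = Multiplicative.ofAdd (x₀ * x)}
      add_mem' := by
        rintro x y ⟨u, hu, hux⟩ ⟨v, hv, hvy⟩
        refine ⟨u * v, U.mul_mem hu hv, ?_⟩
        rw [map_mul, hux, hvy, ← ofAdd_add, mul_add]
      zero_mem' := ⟨1, U.one_mem, by simp⟩
      neg_mem' := by
        rintro x ⟨u, hu, hux⟩
        refine ⟨u⁻¹, U.inv_mem hu, ?_⟩
        rw [map_inv, hux, ← ofAdd_neg, mul_neg] }
  have hS : S = ⊤ := by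
    apply span_top (p := p) (q := q) a ha hK ζ' h1 h2
    · exact ⟨u₀, hu₀, by rw [mul_one]; rfl⟩
    · rintro x ⟨u, hu, hux⟩
      obtain ⟨v, hv, hvu⟩ := hU u hu
      refine ⟨v, hv, ?_⟩
      rw [hvu, hux]
      simp only [toAdd_ofAdd]
      congr 1
      ring
  have hall : ∀ w : A, ∃ u ∈ U, D.π u = D.π w := by
    intro w
    have : x₀⁻¹ * Multiplicative.toAdd (D.π w) ∈ S := by rw [hS]; trivial
    obtain ⟨u, hu, hux⟩ := this
    refine ⟨u, hu, ?_⟩
    rw [hux, mul_inv_cancel_left₀ hx₀0]
    rfl
  have hcommU : commutator A ≤ U := by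
    rw [commutator_def, Subgroup.commutator_le]
    intro a _ b _
    obtain ⟨s, hs, hs1⟩ := hall a
    obtain ⟨t, ht, ht1⟩ := hall b
    have h3 : ⁅a, b⁆ = ⁅s, t⁆ := D.comm_congr hs1.symm ht1.symm
    rw [h3, commutatorElement_def]
    exact U.mul_mem (U.mul_mem (U.mul_mem hs ht) (U.inv_mem hs)) (U.inv_mem ht)
  rw [eq_top_iff]
  intro w _
  obtain ⟨u, hu, huw⟩ := hall w
  have h4 : w = u * (u⁻¹ * w) := by group
  rw [h4]
  refine U.mul_mem hu (hcommU (hcomm _ ?_))
  rw [map_mul, map_inv, huw]
  simp

section Semi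

variable {p q r : ℕ} [hp : Fact p.Prime] [hq : Fact q.Prime] [hN : NeZero (q ^ r)]
variable [Finite A]

/-- `G₀` has no normal `p`-complement. -/
theorem not_npc (hpq : p ≠ q) (hr : 1 ≤ r) (hA : IsPGroup p A) (hζ1 : ζ ≠ 1)
    (hα : (D.γ : MulAut A) ^ (q ^ r) = 1) :
    ¬ Cfsg.HasNormalPComplement p (A ⋊[actHom D.γ (q ^ r) hα] Multiplicative (ZMod (q ^ r))) := by
  classical
  rintro ⟨P, N, hNn, hc⟩
  have hq1 := hq.out
  have hpq' : Nat.Coprime q p := (Nat.coprime_primes hq1 hp.out).mpr hpq.symm
  let φ := actHom D.γ (q ^ r) hα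
  let c₀ : Multiplicative (ZMod (q ^ r)) := Multiplicative.ofAdd 1
  let y₀ : A ⋊[φ] Multiplicative (ZMod (q ^ r)) := SemidirectProduct.inr c₀
  have hNcard : Nat.card (Multiplicative (ZMod (q ^ r))) = q ^ r := by
    change Nat.card (ZMod (q ^ r)) = _
    simp
  have hy₀ : Nat.Coprime (orderOf y₀) p := by
    have h1 : orderOf y₀ ∣ q ^ r := by
      apply orderOf_dvd_of_pow_eq_one
      have hc₀ : c₀ ^ (q ^ r) = 1 := by
        have := pow_card_eq_one' (x := c₀)
        rwa [hNcard] at this
      rw [← map_pow, hc₀, map_one]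
    exact Nat.Coprime.coprime_dvd_left h1 (Nat.Coprime.pow_left r hpq')
  have hy₀N : y₀ ∈ N := mem_complement_of_coprime P N hNn hc y₀ hy₀
  obtain ⟨u, hu⟩ := D.surj (Multiplicative.ofAdd 1)
  have h1lt : Fact (1 < q ^ r) := ⟨Nat.one_lt_pow (by omega) hq1.one_lt⟩
  have hφ : φ c₀ = D.γ := by
    rw [actHom_apply]
    change (D.γ : MulAut A) ^ ZMod.val (1 : ZMod (q ^ r)) = D.γ
    rw [ZMod.val_one, pow_one]
  have hinl : (SemidirectProduct.inl (D.γ u * u⁻¹) : A ⋊[φ] Multiplicative (ZMod (q ^ r))) =
      y₀ * (SemidirectProduct.inl u * y₀⁻¹ * (SemidirectProduct.inl u)⁻¹) := by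
    have h2 : (SemidirectProduct.inl (D.γ u) : A ⋊[φ] Multiplicative (ZMod (q ^ r))) =
        y₀ * SemidirectProduct.inl u * y₀⁻¹ := by
      have := SemidirectProduct.inl_aut (φ := φ) c₀ u
      rw [hφ, map_inv] at this
      exact this
    rw [map_mul, h2, map_inv]
    group
  have hmem : (SemidirectProduct.inl (D.γ u * u⁻¹) : A ⋊[φ] Multiplicative (ZMod (q ^ r))) ∈ N := by
    rw [hinl]
    exact N.mul_mem hy₀N (by
      have := hNn.conj_mem _ (N.inv_mem hy₀N) (SemidirectProduct.inl u)
      exact this)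
  have hcop := complement_card_coprime P N hc
  have hord : orderOf (D.γ u * u⁻¹) = 1 := by
    obtain ⟨m, hm⟩ := IsPGroup.iff_card.mp hA
    have h3 : orderOf (SemidirectProduct.inl (D.γ u * u⁻¹) :
        A ⋊[φ] Multiplicative (ZMod (q ^ r))) = orderOf (D.γ u * u⁻¹) :=
      orderOf_injective _ SemidirectProduct.inl_injective _
    have h4 : orderOf (D.γ u * u⁻¹) ∣ Nat.card N := by
      rw [← h3]
      exact Subgroup.orderOf_dvd_natCard N hmem
    have h5 : orderOf (D.γ u * u⁻¹) ∣ p ^ m := by
      rw [← hm]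
      exact orderOf_dvd_natCard _
    exact Nat.eq_one_of_dvd_coprimes (Nat.Coprime.pow_right m hcop) h4 h5
  rw [orderOf_eq_one_iff] at hord
  have h6 : D.γ u = u := by
    have := mul_inv_eq_one.mp hord
    exact this
  have h7 := D.equiv u
  rw [h6, hu] at h7
  have h8 := Multiplicative.ofAdd.injective h7
  simp only [toAdd_ofAdd, mul_one] at h8
  exact hζ1 h8.symm

theorem gen_of_not_dvd (N : ℕ) (hq1 : Nat.Prime q) (hNq : N = q ^ r) [NeZero N]
    (c : Multiplicative (ZMod N)) (hc : ¬ q ∣ (Multiplicative.toAdd c).val)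
    (d : Multiplicative (ZMod N)) : ∃ i : ℕ, d = c ^ i := by
  subst hNq
  set z := Multiplicative.toAdd c with hz
  have hcop : Nat.Coprime z.val (q ^ r) :=
    Nat.Coprime.pow_right r ((Nat.Prime.coprime_iff_not_dvd hq1).mpr hc).symm
  have hu : IsUnit ((z.val : ℕ) : ZMod (q ^ r)) := (ZMod.isUnit_iff_coprime _ _).mpr hcop
  rw [ZMod.natCast_zmod_val] at hu
  obtain ⟨w, hw⟩ := hu.exists_right_inv
  refine ⟨(w * Multiplicative.toAdd d).val, ?_⟩
  apply Multiplicative.toAdd.injective
  rw [toAdd_pow, nsmul_eq_mul, ZMod.natCast_zmod_val, ← hz, mul_comm, ← mul_assoc, hw, one_mul]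

theorem pow_apply_of_fixed (u : A) (hu : D.γ u = u) (k : ℕ) : ((D.γ : MulAut A) ^ k) u = u := by
  induction k with
  | zero => simp
  | succ n ih =>
    rw [pow_succ', MulAut.mul_apply, ih]
    exact hu

/-- Proper subgroups of `G₀` have normal `p`-complements. -/
theorem npc_of_ne_top [Finite K] [Algebra (ZMod p) K] (a : ℕ) (ha : a = orderOf (p : ZMod q))
    (hK : Nat.card K = p ^ a) (hpq : p ≠ q) (hr : 1 ≤ r) (hA : IsPGroup p A)
    (h1 : ζ ^ q = 1) (hζ1 : ζ ≠ 1)
    (hcomm : ∀ r, D.π r = 1 → r ∈ commutator A)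
    (hαq : (D.γ : MulAut A) ^ q = 1)
    (hα : (D.γ : MulAut A) ^ (q ^ r) = 1) :
    ∀ K₁ : Subgroup (A ⋊[actHom D.γ (q ^ r) hα] Multiplicative (ZMod (q ^ r))), K₁ ≠ ⊤ →
      Cfsg.HasNormalPComplement p K₁ := by
  classical
  have hq1 := hq.out
  have hp1 := hp.out
  have hpq' : Nat.Coprime p q := (Nat.coprime_primes hp1 hq1).mpr hpq
  set φ := actHom D.γ (q ^ r) hα with hφ
  set G := A ⋊[φ] Multiplicative (ZMod (q ^ r)) with hG
  intro K₁ hK₁
  let C := Multiplicative (ZMod (q ^ r))
  have hCcard : Nat.card C = q ^ r := by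
    change Nat.card (ZMod (q ^ r)) = _
    simp
  obtain ⟨m, hm⟩ := IsPGroup.iff_card.mp hA
  let ρ₁ : K₁ →* C := (SemidirectProduct.rightHom (φ := φ)).comp K₁.subtype
  let A₁ : Subgroup K₁ := ρ₁.ker
  have hA₁mem : ∀ a : K₁, a ∈ A₁ → ∃ u : A, a.1 = SemidirectProduct.inl u := by
    intro a ha
    have h2 : (SemidirectProduct.rightHom (φ := φ)) a.1 = 1 := ha
    refine ⟨a.1.left, ?_⟩
    have h3 := SemidirectProduct.inl_left_mul_inr_right a.1
    have h4 : a.1.right = 1 := h2
    rw [h4, map_one, mul_one] at h3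
    exact h3.symm
  have hA₁p : IsPGroup p A₁ := by
    intro a
    obtain ⟨u, hu⟩ := hA₁mem a.1 a.2
    obtain ⟨k, hk⟩ := hA u
    refine ⟨k, ?_⟩
    apply Subtype.ext
    apply Subtype.ext
    change (a.1.1 : G) ^ p ^ k = 1
    rw [hu, ← map_pow, hk, map_one]
  have hidx : A₁.index ∣ q ^ r := by
    have h2 : A₁.index ∣ Nat.card C := by
      change ρ₁.ker.index ∣ _
      rw [Subgroup.index_ker]
      exact Subgroup.card_subgroup_dvd_card _
    exact h2.trans (dvd_of_eq hCcard)
  obtain ⟨j, -, hj⟩ := (Nat.dvd_prime_pow hq1).mp hidx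
  have hnd : ¬ p ∣ A₁.index := by
    rw [hj]
    intro h
    have := hp1.dvd_of_dvd_pow h
    exact hpq ((Nat.prime_dvd_prime_iff_eq hp1 hq1).mp this)
  let P₁ : Sylow p K₁ := hA₁p.toSylow hnd
  have hP₁ : (P₁ : Subgroup K₁) = A₁ := rfl
  let S : Sylow q K₁ := default
  obtain ⟨i, hi⟩ := IsPGroup.iff_card.mp hA₁p
  obtain ⟨l, hl⟩ := IsPGroup.iff_card.mp S.isPGroup'
  have hcardK : Nat.card K₁ = q ^ j * p ^ i := by
    rw [← Subgroup.index_mul_card A₁, hj, hi]
  have hSidx : Nat.card S = q ^ j := by
    apply Nat.dvd_antisymm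
    · have h2 : Nat.card S ∣ q ^ j * p ^ i := by
        rw [← hcardK]
        exact Subgroup.card_subgroup_dvd_card _
      have h3 : Nat.Coprime (Nat.card S) (p ^ i) := by
        rw [hl]
        exact Nat.Coprime.pow _ _ hpq'.symm
      exact h3.dvd_of_dvd_mul_right h2
    · apply S.pow_dvd_card_of_pow_dvd_card
      rw [hcardK]
      exact Dvd.intro _ rfl
  have hcompl : (S : Subgroup K₁).IsComplement' A₁ := by
    apply Subgroup.isComplement'_of_coprime
    · rw [hSidx, hi, hcardK]
    · rw [hSidx, hi]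
      exact Nat.Coprime.pow _ _ hpq'.symm
  -- `U₀`
  let U₀ : Subgroup A := K₁.comap (SemidirectProduct.inl (φ := φ))
  -- the commuting statement
  have hcommute : ∀ b ∈ (S : Subgroup K₁), ∀ x ∈ A₁, b * x = x * b := by
    intro b hb x hx
    obtain ⟨u, hu⟩ := hA₁mem x hx
    apply Subtype.ext
    change (b.1 : G) * x.1 = x.1 * b.1
    rw [hu]
    set B : G := b.1 with hB
    have hBdec : B = SemidirectProduct.inl B.left * SemidirectProduct.inr B.right :=
      (SemidirectProduct.inl_left_mul_inr_right B).symm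
    set n := B.left with hn
    set c := B.right with hc
    by_cases hqc : q ∣ (Multiplicative.toAdd c).val
    · -- `c` acts trivially: `B` is central
      have hφc : φ c = 1 := by
        rw [hφ, actHom_apply]
        obtain ⟨t, ht⟩ := hqc
        rw [ht, pow_mul, hαq, one_pow]
      have hcen : ∀ g : G, SemidirectProduct.inr c * g = g * SemidirectProduct.inr c := by
        intro g
        have hg := (SemidirectProduct.inl_left_mul_inr_right g).symm
        rw [hg]
        have h2 : (SemidirectProduct.inr c : G) * SemidirectProduct.inl g.left =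
            SemidirectProduct.inl g.left * SemidirectProduct.inr c := by
          have := SemidirectProduct.inl_aut (φ := φ) c g.left
          rw [hφc] at this
          have h3 : ((1 : MulAut A) g.left) = g.left := rfl
          rw [h3, map_inv] at this
          calc (SemidirectProduct.inr c : G) * SemidirectProduct.inl g.left
              = (SemidirectProduct.inr c * SemidirectProduct.inl g.left *
                  (SemidirectProduct.inr c)⁻¹) * SemidirectProduct.inr c := by group
            _ = _ := by rw [← this]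
        have h3 : (SemidirectProduct.inr c : G) * SemidirectProduct.inr g.right =
            SemidirectProduct.inr g.right * SemidirectProduct.inr c := by
          rw [← map_mul, ← map_mul, mul_comm]
        rw [← mul_assoc, h2, mul_assoc, h3, mul_assoc]
      -- `n = 1`
      obtain ⟨k, hk⟩ := S.isPGroup' ⟨b, hb⟩
      have hb1 : B ^ q ^ k = 1 := by
        have := congrArg (fun z : (S : Subgroup K₁) => ((z : K₁) : G)) hk
        simpa using this
      have hc1 : (SemidirectProduct.inr c : G) ^ q ^ r = 1 := by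
        have hc₀ : c ^ (q ^ r) = 1 := by
          have := pow_card_eq_one' (x := c)
          rwa [show Nat.card (Multiplicative (ZMod (q ^ r))) = q ^ r from hCcard] at this
        rw [← map_pow, hc₀, map_one]
      have hinl : (SemidirectProduct.inl n : G) = B * (SemidirectProduct.inr c)⁻¹ := by
        rw [hBdec]
        group
      have hcm : Commute B (SemidirectProduct.inr c : G)⁻¹ := by
        apply Commute.inv_right
        exact (hcen B).symm
      have hnq : n ^ q ^ (k + r) = 1 := by
        apply SemidirectProduct.inl_injective (φ := φ)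
        have e1 : B ^ q ^ (k + r) = 1 := by rw [pow_add, pow_mul, hb1, one_pow]
        have e2 : ((SemidirectProduct.inr c : G)⁻¹) ^ q ^ (k + r) = 1 := by
          rw [inv_pow, pow_add, mul_comm, pow_mul, hc1, one_pow, inv_one]
        rw [map_pow, hinl, hcm.mul_pow, e1, e2, map_one, one_mul]
      have h5 : orderOf n ∣ q ^ (k + r) := orderOf_dvd_of_pow_eq_one hnq
      have h6 : orderOf n ∣ p ^ m := by
        rw [← hm]
        exact orderOf_dvd_natCard n
      have h7 : orderOf n = 1 :=
        Nat.eq_one_of_dvd_coprimes (Nat.Coprime.pow _ _ hpq'.symm) h5 h6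
      have hn1 : n = 1 := orderOf_eq_one_iff.mp h7
      have hB2 : B = SemidirectProduct.inr c := by
        have := hBdec
        rw [hn1, map_one, one_mul] at this
        exact this
      rw [hB2]
      exact hcen _
    · set v := (Multiplicative.toAdd c).val with hv
      have hζ'1 : (ζ ^ v) ^ q = 1 := by rw [← pow_mul, mul_comm, pow_mul, h1, one_pow]
      have hordζ : orderOf ζ = q := orderOf_eq_prime h1 hζ1
      have hζ'2 : ζ ^ v ≠ 1 := by
        intro h
        have := orderOf_dvd_of_pow_eq_one h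
        rw [hordζ] at this
        exact hqc this
      have hφc : ∀ w, φ c w = ((D.γ : MulAut A) ^ v) w := fun w => rfl
      have hU : ∀ u₁ ∈ U₀, ∃ v' ∈ U₀, D.π v' =
          Multiplicative.ofAdd (ζ ^ v * Multiplicative.toAdd (D.π u₁)) := by
        intro u₁ hu₁
        refine ⟨n * (φ c u₁) * n⁻¹, ?_, ?_⟩
        · have h2 : (SemidirectProduct.inl (n * (φ c u₁) * n⁻¹) : G) =
              B * SemidirectProduct.inl u₁ * B⁻¹ := by
            have e : B * SemidirectProduct.inl u₁ * B⁻¹ =
                (SemidirectProduct.inl n * SemidirectProduct.inr c) * SemidirectProduct.inl u₁ *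
                  (SemidirectProduct.inl n * SemidirectProduct.inr c)⁻¹ := by rw [← hBdec]
            rw [e, map_mul, map_mul, map_inv, SemidirectProduct.inl_aut, map_inv]
            group
          change (SemidirectProduct.inl (n * (φ c u₁) * n⁻¹) : G) ∈ K₁
          rw [h2]
          exact K₁.mul_mem (K₁.mul_mem b.2 hu₁) (K₁.inv_mem b.2)
        · rw [map_mul, map_mul, map_inv, hφc, D.pi_pow, mul_comm (D.π n), mul_assoc, mul_inv_cancel,
            mul_one]
      rcases D.dichotomy (p := p) (q := q) a ha hK hcomm U₀ (ζ ^ v) hζ'1 hζ'2 hU with hU1 | hU2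
      · have huU : u ∈ U₀ := by
          change (SemidirectProduct.inl u : G) ∈ K₁
          rw [← hu]
          exact x.2
        have hu1 : D.π u = 1 := hU1 huU
        have hucen := D.cen u hu1
        have hufix := D.fix u hu1
        have h2 : φ c u = u := by
          rw [hφc]
          exact pow_apply_of_fixed D u hufix v
        have h3 : (SemidirectProduct.inr c : G) * SemidirectProduct.inl u =
            SemidirectProduct.inl u * SemidirectProduct.inr c := by
          have := SemidirectProduct.inl_aut (φ := φ) c u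
          rw [h2, map_inv] at this
          calc (SemidirectProduct.inr c : G) * SemidirectProduct.inl u
              = (SemidirectProduct.inr c * SemidirectProduct.inl u *
                  (SemidirectProduct.inr c)⁻¹) * SemidirectProduct.inr c := by group
            _ = _ := by rw [← this]
        have h4 : (SemidirectProduct.inl n : G) * SemidirectProduct.inl u =
            SemidirectProduct.inl u * SemidirectProduct.inl n := by
          rw [← map_mul, ← map_mul, Subgroup.mem_center_iff.mp hucen n]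
        rw [hBdec, mul_assoc, h3, ← mul_assoc, h4, mul_assoc]
      · exfalso
        apply hK₁
        rw [eq_top_iff]
        intro g _
        have hinl : ∀ w : A, (SemidirectProduct.inl w : G) ∈ K₁ := by
          intro w
          have : w ∈ U₀ := by rw [hU2]; trivial
          exact this
        have hrc : (SemidirectProduct.inr c : G) ∈ K₁ := by
          have h2 : (SemidirectProduct.inr c : G) = (SemidirectProduct.inl n)⁻¹ * B := by
            rw [hBdec]
            group
          rw [h2]
          exact K₁.mul_mem (K₁.inv_mem (hinl n)) b.2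
        obtain ⟨t, ht⟩ := gen_of_not_dvd (q := q) (r := r) (q ^ r) hq1 rfl c hqc g.right
        rw [← SemidirectProduct.inl_left_mul_inr_right g]
        refine K₁.mul_mem (hinl _) ?_
        rw [ht, map_pow]
        exact K₁.pow_mem hrc t
  have hnorm : (S : Subgroup K₁).Normal := by
    apply Subgroup.normalizer_eq_top_iff.mp
    rw [eq_top_iff, ← hcompl.sup_eq_top]
    apply sup_le Subgroup.le_normalizer
    intro y hy
    rw [Subgroup.mem_normalizer_iff]
    intro h
    constructor
    · intro hh
      have h2 := hcommute h hh y hy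
      have h3 : y * h * y⁻¹ = h := by
        rw [← h2]
        group
      change y * h * y⁻¹ ∈ (S : Subgroup K₁)
      rwa [h3]
    · intro hh
      have hh' : y * h * y⁻¹ ∈ (S : Subgroup K₁) := hh
      have h2 := hcommute _ hh' y hy
      have h3 : h = y * h * y⁻¹ := by
        have h4 : (y * h * y⁻¹) * y = y * h := by group
        rw [h4] at h2
        exact mul_left_cancel h2
      change h ∈ (S : Subgroup K₁)
      rw [h3]
      exact hh'
  exact ⟨P₁, (S : Subgroup K₁), hnorm, hcompl⟩

end Semi

end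

end Cfsg.Agent.Lib.Schmidt4395
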