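import Cfsg.Agent.Lib.Schmidt4395.Bound

/-!
The groups `P₀`: the additive group of `K` for `a` odd, and the Sylow `p`-subgroup of a unitary
group `U₃` (of order `p ^ (3 b)`) for `a = 2 b`.
-/

set_option autoImplicit false

namespace Cfsg.Agent.Lib.Schmidt4395

open scoped commutatorElement

variable {K : Type*} [Field K]

/-- The set `{(x, s) : s + s̄ = x x̄}`. -/
@[ext] structure U3 (σ : K →+* K) where
  x : K
  s : K
  h : s + σ s = x * σ x

namespace U3

variable {σ : K →+* K} [hσ : Fact (∀ x, σ (σ x) = x)]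

instance : Mul (U3 σ) :=
  ⟨fun a b => ⟨a.x + b.x, a.s + b.s + a.x * σ b.x, by
    have h1 := a.h
    have h2 := b.h
    simp only [map_add, map_mul, hσ.out]
    linear_combination h1 + h2⟩⟩

instance : One (U3 σ) := ⟨⟨0, 0, by simp⟩⟩

instance : Inv (U3 σ) :=
  ⟨fun a => ⟨-a.x, σ a.s, by
    have h1 := a.h
    simp only [map_neg, hσ.out]
    linear_combination h1⟩⟩

@[simp] theorem mul_x (a b : U3 σ) : (a * b).x = a.x + b.x := rfl
@[simp] theorem mul_s (a b : U3 σ) : (a * b).s = a.s + b.s + a.x * σ b.x := rfl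
@[simp] theorem one_x : (1 : U3 σ).x = 0 := rfl
@[simp] theorem one_s : (1 : U3 σ).s = 0 := rfl
@[simp] theorem inv_x (a : U3 σ) : (a⁻¹).x = -a.x := rfl
@[simp] theorem inv_s (a : U3 σ) : (a⁻¹).s = σ a.s := rfl

instance : Group (U3 σ) :=
  Group.ofLeftAxioms
    (by
      intro a b c
      ext
      · simp [add_assoc]
      · simp only [mul_s, mul_x, map_add]
        ring)
    (by
      intro a
      ext <;> simp)
    (by
      intro a
      have h1 := a.h
      ext
      · simp
      · simp only [mul_s, inv_s, inv_x, one_s]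
        linear_combination h1)

/-- The projection to the additive group of `K`. -/
def pr : U3 σ →* Multiplicative K where
  toFun a := Multiplicative.ofAdd a.x
  map_one' := rfl
  map_mul' _ _ := rfl

@[simp] theorem pr_apply (a : U3 σ) : pr a = Multiplicative.ofAdd a.x := rfl

instance [Finite K] : Finite (U3 σ) :=
  Finite.of_injective (fun a : U3 σ => (a.x, a.s)) (by
    intro a b h
    have h1 := congrArg Prod.fst h
    have h2 := congrArg Prod.snd h
    exact U3.ext h1 h2)

theorem mem_center_of_x (a : U3 σ) (ha : a.x = 0) : a ∈ Subgroup.center (U3 σ) := by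
  rw [Subgroup.mem_center_iff]
  intro b
  ext
  · simp [ha, add_comm]
  · simp [ha, add_comm]

/-- The action of a norm-one element. -/
def act (ζ : K) (hζ : ζ * σ ζ = 1) (hζ0 : ζ ≠ 0) : U3 σ ≃* U3 σ where
  toFun a := ⟨ζ * a.x, a.s, by
    have h1 := a.h
    simp only [map_mul]
    linear_combination h1 - a.x * σ a.x * hζ⟩
  invFun a := ⟨ζ⁻¹ * a.x, a.s, by
    have h1 := a.h
    have h2 : ζ⁻¹ * σ ζ⁻¹ = 1 := by
      rw [map_inv₀, ← mul_inv, hζ, inv_one]
    simp only [map_mul]
    linear_combination h1 - a.x * σ a.x * h2⟩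
  left_inv a := by
    ext
    · simp [inv_mul_cancel_left₀ hζ0]
    · rfl
  right_inv a := by
    ext
    · simp [mul_inv_cancel_left₀ hζ0]
    · rfl
  map_mul' a b := by
    ext
    · simp [mul_add]
    · simp only [mul_s, map_mul]
      linear_combination (-(a.x * σ b.x)) * hζ

end U3

section Even

variable {p q : ℕ} [hp : Fact p.Prime] [hq : Fact q.Prime]
variable [Finite K] [Algebra (ZMod p) K]

/-- The data attached to `U3`. -/
noncomputable def u3Base (b : ℕ) (hb0 : b ≠ 0) (hK : Nat.card K = p ^ (2 * b))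
    [Fact (∀ x : K, barHom p K b (barHom p K b x) = x)]
    (ζ : K) (hζ : ζ * barHom p K b ζ = 1) (hζ0 : ζ ≠ 0) : SBase ζ (U3 (barHom p K b)) where
  π := U3.pr
  γ := U3.act ζ hζ hζ0
  surj := by
    intro x
    obtain ⟨-, -, h3, -⟩ := card_main (p := p) (K := K) b hb0 hK
    have hbar : ∀ x : K, barHom p K b (barHom p K b x) = x := barHom_barHom b hK
    obtain ⟨s, hs⟩ := h3 (Multiplicative.toAdd x * barHom p K b (Multiplicative.toAdd x)) (by
      rw [map_mul, hbar, mul_comm])
    exact ⟨⟨Multiplicative.toAdd x, s, hs⟩, rfl⟩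
  equiv := fun r => rfl
  cen := by
    intro r hr
    exact U3.mem_center_of_x r (by
      have : Multiplicative.ofAdd r.x = 1 := hr
      simpa using this)
  fix := by
    intro r hr
    have h1 : r.x = 0 := by
      have : Multiplicative.ofAdd r.x = 1 := hr
      simpa using this
    ext
    · change ζ * r.x = r.x
      rw [h1, mul_zero]
    · rfl

theorem u3_comm (b : ℕ) (hb0 : b ≠ 0) (hK : Nat.card K = p ^ (2 * b))
    [Fact (∀ x : K, barHom p K b (barHom p K b x) = x)]
    (r : U3 (barHom p K b)) (hr : r.x = 0) : r ∈ commutator (U3 (barHom p K b)) := by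
  obtain ⟨-, -, h3, h4⟩ := card_main (p := p) (K := K) b hb0 hK
  have hbar : ∀ x : K, barHom p K b (barHom p K b x) = x := barHom_barHom b hK
  have hanti : barHom p K b r.s = -r.s := by
    have h1 := r.h
    rw [hr, zero_mul] at h1
    exact eq_neg_of_add_eq_zero_right h1
  obtain ⟨w, hw⟩ := h4 r.s hanti
  have hex : ∀ x : K, ∃ u : U3 (barHom p K b), u.x = x := by
    intro x
    obtain ⟨s, hs⟩ := h3 (x * barHom p K b x) (by rw [map_mul, hbar, mul_comm])
    exact ⟨⟨x, s, hs⟩, rfl⟩
  obtain ⟨a, ha⟩ := hex w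
  obtain ⟨c, hc⟩ := hex 1
  have h5 : r * (c * a) = a * c := by
    ext
    · simp [hr, ha, hc, add_comm]
    · simp only [U3.mul_s, U3.mul_x, hr, ha, hc, map_one, zero_mul, mul_one, one_mul, add_zero]
      rw [← hw]
      ring
  have h6 : r = ⁅a, c⁆ := by
    rw [commutatorElement_def]
    calc r = r * (c * a) * (c * a)⁻¹ := by group
      _ = a * c * a⁻¹ * c⁻¹ := by rw [h5]; group
  rw [h6, commutator_def]
  exact Subgroup.commutator_mem_commutator trivial trivial

theorem u3_card (b : ℕ) (hb0 : b ≠ 0) (hK : Nat.card K = p ^ (2 * b))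
    [Fact (∀ x : K, barHom p K b (barHom p K b x) = x)]
    (ζ : K) (hζ : ζ * barHom p K b ζ = 1) (hζ0 : ζ ≠ 0) :
    Nat.card (u3Base (p := p) b hb0 hK ζ hζ hζ0).π.ker = p ^ b ∧
      Nat.card (U3 (barHom p K b)) = p ^ (3 * b) := by
  obtain ⟨-, h2, -, -⟩ := card_main (p := p) (K := K) b hb0 hK
  set D := u3Base (p := p) b hb0 hK ζ hζ hζ0 with hD
  have hker : Nat.card D.π.ker = p ^ b := by
    rw [← h2]
    apply Nat.card_congr
    refine
      { toFun := fun r => ⟨r.1.s, ?_⟩
        invFun := fun z => ⟨⟨0, z.1, ?_⟩, ?_⟩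
        left_inv := ?_
        right_inv := ?_ }
    · have h1 := r.1.h
      have h3 : r.1.x = 0 := by
        have : Multiplicative.ofAdd r.1.x = 1 := r.2
        simpa using this
      rw [h3, zero_mul] at h1
      exact eq_neg_of_add_eq_zero_right h1
    · have := z.2
      rw [mem_antiSub] at this
      rw [this]
      simp
    · rfl
    · rintro ⟨r, hr⟩
      have h3 : r.x = 0 := by
        have : Multiplicative.ofAdd r.x = 1 := hr
        simpa using this
      apply Subtype.ext
      ext
      · exact h3.symm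
      · rfl
    · rintro ⟨z, hz⟩
      rfl
  refine ⟨hker, ?_⟩
  have h3 := Subgroup.card_eq_card_quotient_mul_card_subgroup D.π.ker
  rw [Nat.card_congr (QuotientGroup.quotientKerEquivOfSurjective D.π D.surj).toEquiv, hker] at h3
  rw [h3]
  have : Nat.card (Multiplicative K) = p ^ (2 * b) := by
    rw [← hK]
    rfl
  rw [this, ← pow_add]
  congr 1
  ring

end Even

section Odd

/-- The additive group of `K`, with multiplication by `ζ`. -/
noncomputable def addBase (ζ : K) (hζ0 : ζ ≠ 0) : SBase ζ (Multiplicative K) where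
  π := MonoidHom.id _
  γ :=
    { toFun := fun x => Multiplicative.ofAdd (ζ * Multiplicative.toAdd x)
      invFun := fun x => Multiplicative.ofAdd (ζ⁻¹ * Multiplicative.toAdd x)
      left_inv := fun x => by simp [inv_mul_cancel_left₀ hζ0]
      right_inv := fun x => by simp [mul_inv_cancel_left₀ hζ0]
      map_mul' := fun x y => by
        simp only [toAdd_mul, mul_add]
        rfl }
  surj := fun x => ⟨x, rfl⟩
  equiv := fun r => rfl
  cen := by
    intro r hr
    have : r = 1 := hr
    rw [this]
    exact Subgroup.one_mem _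
  fix := by
    intro r hr
    have : r = 1 := hr
    rw [this]
    exact map_one _

end Odd

end Cfsg.Agent.Lib.Schmidt4395
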