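import Cfsg.Agent.Lib.Schmidt4395.U3

/-!
The universal map: the fibre product of `A` and `B` over `K`, and its subgroup `[T, γ]`.
-/

set_option autoImplicit false

namespace Cfsg.Agent.Lib.Schmidt4395

universe v u

open scoped commutatorElement

variable {K : Type*} [Field K] {ζ : K}
variable {A : Type v} [Group A] {B : Type u} [Group B]

/-- The fibre product. -/
def fiberT (DA : SData ζ A) (DB : SData ζ B) : Subgroup (A × B) where
  carrier := {t | DA.π t.1 = DB.π t.2}
  mul_mem' := by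
    intro a b ha hb
    simp only [Set.mem_ofPred_eq, Prod.fst_mul, Prod.snd_mul, map_mul] at ha hb ⊢
    rw [ha, hb]
  one_mem' := by simp
  inv_mem' := by
    intro a ha
    simp only [Set.mem_ofPred_eq, Prod.fst_inv, Prod.snd_inv, map_inv] at ha ⊢
    rw [ha]

/-- The automorphism on the product. -/
def prodAut (DA : SData ζ A) (DB : SData ζ B) : A × B ≃* A × B :=
  MulEquiv.prodCongr DA.γ DB.γ

theorem prodAut_apply (DA : SData ζ A) (DB : SData ζ B) (t : A × B) :
    prodAut DA DB t = (DA.γ t.1, DB.γ t.2) := rfl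

theorem prodAut_mem (DA : SData ζ A) (DB : SData ζ B) {t : A × B} (ht : t ∈ fiberT DA DB) :
    prodAut DA DB t ∈ fiberT DA DB := by
  have h : DA.π t.1 = DB.π t.2 := ht
  change DA.π (DA.γ t.1) = DB.π (DB.γ t.2)
  rw [DA.equiv, DB.equiv, h]

theorem prodAut_symm_mem (DA : SData ζ A) (DB : SData ζ B) (hζ0 : ζ ≠ 0) {t : A × B}
    (ht : t ∈ fiberT DA DB) : (prodAut DA DB).symm t ∈ fiberT DA DB := by
  have h : DA.π t.1 = DB.π t.2 := ht
  set s := (prodAut DA DB).symm t with hs
  have ht2 : t = prodAut DA DB s := by rw [hs]; simp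
  have h2 : DA.π (DA.γ s.1) = DB.π (DB.γ s.2) := by
    rw [ht2] at h
    exact h
  rw [DA.equiv, DB.equiv] at h2
  have h3 := Multiplicative.ofAdd.injective h2
  have h4 := mul_left_cancel₀ hζ0 h3
  exact Multiplicative.toAdd.injective h4

/-- The generators of `[T, γ]`. -/
def gensR (DA : SData ζ A) (DB : SData ζ B) : Set (A × B) :=
  {g | ∃ t ∈ fiberT DA DB, g = t⁻¹ * prodAut DA DB t}

/-- The subgroup `[T, γ]`. -/
def subR (DA : SData ζ A) (DB : SData ζ B) : Subgroup (A × B) :=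
  Subgroup.closure (gensR DA DB)

theorem subR_le (DA : SData ζ A) (DB : SData ζ B) : subR DA DB ≤ fiberT DA DB := by
  rw [subR, Subgroup.closure_le]
  rintro _ ⟨t, ht, rfl⟩
  exact (fiberT DA DB).mul_mem ((fiberT DA DB).inv_mem ht) (prodAut_mem DA DB ht)

theorem subR_aut (DA : SData ζ A) (DB : SData ζ B) {r : A × B} (hr : r ∈ subR DA DB) :
    prodAut DA DB r ∈ subR DA DB := by
  have : subR DA DB ≤ (subR DA DB).comap (prodAut DA DB).toMonoidHom := by
    rw [subR, Subgroup.closure_le]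
    rintro _ ⟨t, ht, rfl⟩
    rw [SetLike.mem_coe, Subgroup.mem_comap]
    apply Subgroup.subset_closure
    refine ⟨prodAut DA DB t, prodAut_mem DA DB ht, ?_⟩
    simp
  exact this hr

theorem subR_aut_symm (DA : SData ζ A) (DB : SData ζ B) (hζ0 : ζ ≠ 0) {r : A × B}
    (hr : r ∈ subR DA DB) : (prodAut DA DB).symm r ∈ subR DA DB := by
  have : subR DA DB ≤ (subR DA DB).comap (prodAut DA DB).symm.toMonoidHom := by
    rw [subR, Subgroup.closure_le]
    rintro _ ⟨t, ht, rfl⟩
    rw [SetLike.mem_coe, Subgroup.mem_comap]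
    apply Subgroup.subset_closure
    refine ⟨(prodAut DA DB).symm t, prodAut_symm_mem DA DB hζ0 ht, ?_⟩
    simp
  exact this hr

/-- The structure on `[T, γ]`. -/
noncomputable def subRData (DA : SData ζ A) (DB : SData ζ B) (hζ1 : ζ ≠ 1) (hζ0 : ζ ≠ 0) :
    SData ζ (subR DA DB) :=
  have hζ2 : ζ - 1 ≠ 0 := sub_ne_zero.mpr hζ1
  let πR : subR DA DB →* Multiplicative K :=
    DA.π.comp ((MonoidHom.fst A B).comp (subR DA DB).subtype)
  let γR : subR DA DB ≃* subR DA DB :=
    { toFun := fun r => ⟨prodAut DA DB r.1, subR_aut DA DB r.2⟩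
      invFun := fun r => ⟨(prodAut DA DB).symm r.1, subR_aut_symm DA DB hζ0 r.2⟩
      left_inv := fun r => Subtype.ext (by simp)
      right_inv := fun r => Subtype.ext (by simp)
      map_mul' := fun a b => Subtype.ext (by simp) }
  have hT : ∀ r : subR DA DB, DA.π r.1.1 = DB.π r.1.2 := fun r => subR_le DA DB r.2
  have hsurj : Function.Surjective πR := by
    intro x
    obtain ⟨u, hu⟩ := DA.surj (Multiplicative.ofAdd ((ζ - 1)⁻¹ * Multiplicative.toAdd x))
    obtain ⟨v, hv⟩ := DB.surj (Multiplicative.ofAdd ((ζ - 1)⁻¹ * Multiplicative.toAdd x))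
    have ht : (u, v) ∈ fiberT DA DB := by
      change DA.π u = DB.π v
      rw [hu, hv]
    refine ⟨⟨(u, v)⁻¹ * prodAut DA DB (u, v), Subgroup.subset_closure ⟨_, ht, rfl⟩⟩, ?_⟩
    change DA.π (u⁻¹ * DA.γ u) = x
    rw [map_mul, map_inv, DA.equiv, hu]
    apply Multiplicative.toAdd.injective
    simp only [toAdd_mul, toAdd_inv, toAdd_ofAdd]
    field_simp
    ring
  have hker : ∀ r : subR DA DB, πR r = 1 → DA.π r.1.1 = 1 ∧ DB.π r.1.2 = 1 := by
    intro r hr
    have h1 : DA.π r.1.1 = 1 := hr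
    exact ⟨h1, by rw [← hT r, h1]⟩
  have hcen : ∀ r, πR r = 1 → r ∈ Subgroup.center (subR DA DB) := by
    intro r hr
    obtain ⟨h1, h2⟩ := hker r hr
    rw [Subgroup.mem_center_iff]
    intro g
    apply Subtype.ext
    apply Prod.ext
    · exact Subgroup.mem_center_iff.mp (DA.cen _ h1) g.1.1
    · exact Subgroup.mem_center_iff.mp (DB.cen _ h2) g.1.2
  have hfix : ∀ r, πR r = 1 → γR r = r := by
    intro r hr
    obtain ⟨h1, h2⟩ := hker r hr
    apply Subtype.ext
    apply Prod.ext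
    · exact DA.fix _ h1
    · exact DB.fix _ h2
  { π := πR
    γ := γR
    surj := hsurj
    equiv := fun r => DA.equiv r.1.1
    cen := hcen
    fix := hfix
    gen := by
      intro S hS
      have hle : subR DA DB ≤ S.map (subR DA DB).subtype := by
        refine (Subgroup.closure_le _).mpr ?_
        rintro _ ⟨t, ht, rfl⟩
        -- write `t = r a` with `r ∈ R` and `a` in the kernels
        obtain ⟨r, hr⟩ := hsurj (DA.π t.1)
        have hr1 : DA.π r.1.1 = DA.π t.1 := hr
        have hr2 : DB.π r.1.2 = DB.π t.2 := by rw [← hT r, hr1]; exact ht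
        have ha1 : DA.π (r.1.1⁻¹ * t.1) = 1 := by simp [hr1]
        have ha2 : DB.π (r.1.2⁻¹ * t.2) = 1 := by simp [hr2]
        have hc1 := DA.cen _ ha1
        have hc2 := DB.cen _ ha2
        have hf1 := DA.fix _ ha1
        have hf2 := DB.fix _ ha2
        refine ⟨r⁻¹ * γR r, hS r, ?_⟩
        change r.1⁻¹ * prodAut DA DB r.1 = t⁻¹ * prodAut DA DB t
        apply Prod.ext
        · change r.1.1⁻¹ * DA.γ r.1.1 = t.1⁻¹ * DA.γ t.1
          obtain ⟨a, ha⟩ : ∃ a, a = r.1.1⁻¹ * t.1 := ⟨_, rfl⟩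
          rw [← ha] at hc1 hf1
          have h5 : t.1 = r.1.1 * a := by rw [ha]; group
          rw [h5, map_mul, hf1]
          have hcomm := Subgroup.mem_center_iff.mp hc1 (r.1.1⁻¹ * DA.γ r.1.1)
          calc r.1.1⁻¹ * DA.γ r.1.1 = a⁻¹ * (a * (r.1.1⁻¹ * DA.γ r.1.1)) := by group
            _ = a⁻¹ * ((r.1.1⁻¹ * DA.γ r.1.1) * a) := by rw [hcomm]
            _ = (r.1.1 * a)⁻¹ * (DA.γ r.1.1 * a) := by group
        · change r.1.2⁻¹ * DB.γ r.1.2 = t.2⁻¹ * DB.γ t.2
          obtain ⟨a, ha⟩ : ∃ a, a = r.1.2⁻¹ * t.2 := ⟨_, rfl⟩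
          rw [← ha] at hc2 hf2
          have h5 : t.2 = r.1.2 * a := by rw [ha]; group
          rw [h5, map_mul, hf2]
          have hcomm := Subgroup.mem_center_iff.mp hc2 (r.1.2⁻¹ * DB.γ r.1.2)
          calc r.1.2⁻¹ * DB.γ r.1.2 = a⁻¹ * (a * (r.1.2⁻¹ * DB.γ r.1.2)) := by group
            _ = a⁻¹ * ((r.1.2⁻¹ * DB.γ r.1.2) * a) := by rw [hcomm]
            _ = (r.1.2 * a)⁻¹ * (DB.γ r.1.2 * a) := by group
      rw [eq_top_iff]
      intro x _
      obtain ⟨y, hy, hyx⟩ := hle x.2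
      have : y = x := Subtype.ext hyx
      rwa [← this] }

theorem subRData_pi (DA : SData ζ A) (DB : SData ζ B) (hζ1 : ζ ≠ 1) (hζ0 : ζ ≠ 0)
    (r : subR DA DB) : (subRData DA DB hζ1 hζ0).π r = DA.π r.1.1 := rfl

/-- The universal map. -/
theorem exists_psi [Finite K] [Finite A] [Finite B] (DA : SData ζ A) (DB : SData ζ B) (hζ1 : ζ ≠ 1) (hζ0 : ζ ≠ 0)
    (hbound : Nat.card (subRData DA DB hζ1 hζ0).π.ker ≤ Nat.card DA.π.ker) :
    ∃ ψ : A →* B, Function.Surjective ψ ∧ (∀ u, DB.π (ψ u) = DA.π u) ∧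
      (∀ u, ψ (DA.γ u) = DB.γ (ψ u)) := by
  classical
  set DR := subRData DA DB hζ1 hζ0 with hDR
  have hT : ∀ r : subR DA DB, DA.π r.1.1 = DB.π r.1.2 := fun r => subR_le DA DB r.2
  let pA : subR DA DB →* A := (MonoidHom.fst A B).comp (subR DA DB).subtype
  let pB : subR DA DB →* B := (MonoidHom.snd A B).comp (subR DA DB).subtype
  have hgenmem : ∀ u v, DA.π u = DB.π v →
      (((u, v)⁻¹ * prodAut DA DB (u, v)) : A × B) ∈ subR DA DB := by
    intro u v huv
    exact Subgroup.subset_closure ⟨_, huv, rfl⟩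
  have hpA : Function.Surjective pA := by
    have htop := DA.gen pA.range (by
      intro u
      obtain ⟨v, hv⟩ := DB.surj (DA.π u)
      exact ⟨⟨_, hgenmem u v hv.symm⟩, rfl⟩)
    exact MonoidHom.range_eq_top.mp htop
  have hpB : Function.Surjective pB := by
    have htop := DB.gen pB.range (by
      intro v
      obtain ⟨u, hu⟩ := DA.surj (DB.π v)
      exact ⟨⟨_, hgenmem u v hu⟩, rfl⟩)
    exact MonoidHom.range_eq_top.mp htop
  have hcardR : Nat.card (subR DA DB) = Nat.card (Multiplicative K) * Nat.card DR.π.ker := by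
    have h3 := Subgroup.card_eq_card_quotient_mul_card_subgroup DR.π.ker
    rwa [Nat.card_congr (QuotientGroup.quotientKerEquivOfSurjective DR.π DR.surj).toEquiv] at h3
  have hcardA : Nat.card A = Nat.card (Multiplicative K) * Nat.card DA.π.ker := by
    have h3 := Subgroup.card_eq_card_quotient_mul_card_subgroup DA.π.ker
    rwa [Nat.card_congr (QuotientGroup.quotientKerEquivOfSurjective DA.π DA.surj).toEquiv] at h3
  have hle : Nat.card (subR DA DB) ≤ Nat.card A := by
    rw [hcardR, hcardA]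
    exact Nat.mul_le_mul_left _ hbound
  haveI : Finite (subR DA DB) := inferInstance
  have hbij := hpA.bijective_of_nat_card_le hle
  let e : subR DA DB ≃* A := MulEquiv.ofBijective pA hbij
  have he : ∀ r, e r = r.1.1 := fun r => rfl
  refine ⟨pB.comp e.symm.toMonoidHom, ?_, ?_, ?_⟩
  · intro v
    obtain ⟨r, hr⟩ := hpB v
    exact ⟨e r, by simpa using hr⟩
  · intro u
    have h1 := hT (e.symm u)
    have h2 : (e.symm u).1.1 = u := by rw [← he]; simp
    change DB.π (e.symm u).1.2 = DA.π u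
    rw [← h1, h2]
  · intro u
    have h1 : e.symm (DA.γ u) = DR.γ (e.symm u) := by
      apply e.injective
      rw [MulEquiv.apply_symm_apply, he]
      change DA.γ u = DA.γ (e.symm u).1.1
      congr 1
      rw [← he]
      simp
    change (e.symm (DA.γ u)).1.2 = DB.γ (e.symm u).1.2
    rw [h1]
    rfl

end Cfsg.Agent.Lib.Schmidt4395
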