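import Cfsg.Agent.Lib.Schmidt4395.Abstract
import Cfsg.Agent.Lib.Transfer.Frobenius

/-!
The structure of a minimal non-`p`-nilpotent group of order `p ^ t * q ^ r`.
-/

set_option autoImplicit false

namespace Cfsg.Agent.Lib.Schmidt4395

universe u

variable {p q : ℕ} [hp : Fact p.Prime] [hq : Fact q.Prime]
variable {X : Type u} [Group X] [Finite X]

/-- Conjugation-invariance gives the normaliser in a finite group. -/
theorem mem_normalizer_of_conj_le (U : Subgroup X) (y : X) (h : ∀ u ∈ U, y * u * y⁻¹ ∈ U) :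
    y ∈ Subgroup.normalizer (U : Set X) := by
  rw [Subgroup.mem_normalizer_iff]
  intro g
  constructor
  · exact h g
  · intro hg
    let f : U → U := fun u => ⟨y * u * y⁻¹, h u u.2⟩
    have hf : Function.Injective f := by
      intro a b hab
      have h1 : y * (a : X) * y⁻¹ = y * (b : X) * y⁻¹ := congrArg Subtype.val hab
      exact Subtype.ext (mul_left_cancel (mul_right_cancel h1))
    obtain ⟨a, ha⟩ := (Finite.injective_iff_surjective.mp hf) ⟨y * g * y⁻¹, hg⟩
    have h1 : y * (a : X) * y⁻¹ = y * g * y⁻¹ := congrArg Subtype.val ha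
    have h2 : (a : X) = g := mul_left_cancel (mul_right_cancel h1)
    rw [← h2]
    exact a.2

/-- In a proper subgroup, an element of order prime to `p` normalising a `p`-subgroup
centralises it. -/
theorem comm_of_proper (hX2 : ∀ K : Subgroup X, K ≠ ⊤ → Cfsg.HasNormalPComplement p K)
    (U : Subgroup X) (hU : IsPGroup p U) (y : X) (hy : Nat.Coprime (orderOf y) p)
    (hyU : ∀ u ∈ U, y * u * y⁻¹ ∈ U) (H : Subgroup X) (hUH : U ≤ H) (hyH : y ∈ H) (hH : H ≠ ⊤) :
    ∀ u ∈ U, y * u = u * y := by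
  intro u hu
  obtain ⟨P₁, N, hN, hc⟩ := hX2 H hH
  let y' : H := ⟨y, hyH⟩
  let u' : H := ⟨u, hUH hu⟩
  have hy' : orderOf y' = orderOf y := Subgroup.orderOf_mk y hyH
  have hy'N : y' ∈ N := mem_complement_of_coprime P₁ N hN hc y' (by rw [hy']; exact hy)
  have hcN : u' * y' * u'⁻¹ * y'⁻¹ ∈ N :=
    N.mul_mem (hN.conj_mem y' hy'N u') (N.inv_mem hy'N)
  have hcU : u * y * u⁻¹ * y⁻¹ ∈ U := by
    have e : u * y * u⁻¹ * y⁻¹ = u * (y * u⁻¹ * y⁻¹) := by group
    rw [e]
    exact U.mul_mem hu (hyU _ (U.inv_mem hu))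
  obtain ⟨k, hk⟩ := hU ⟨_, hcU⟩
  have hk' : (u * y * u⁻¹ * y⁻¹) ^ p ^ k = 1 := congrArg Subtype.val hk
  have h1 : orderOf (u' * y' * u'⁻¹ * y'⁻¹) ∣ Nat.card N := Subgroup.orderOf_dvd_natCard N hcN
  have h2 : orderOf (u' * y' * u'⁻¹ * y'⁻¹) ∣ p ^ k := by
    apply orderOf_dvd_of_pow_eq_one
    apply Subtype.ext
    simpa [y', u'] using hk'
  have hcop := complement_card_coprime P₁ N hc
  have h3 : orderOf (u' * y' * u'⁻¹ * y'⁻¹) = 1 :=
    Nat.eq_one_of_dvd_coprimes (Nat.Coprime.pow_right k hcop) h1 h2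
  have h4 := orderOf_eq_one_iff.mp h3
  have h5 : u * y * u⁻¹ * y⁻¹ = 1 := by
    have := congrArg Subtype.val h4
    simpa [y', u'] using this
  have h6 : u * y * u⁻¹ = y := mul_inv_eq_one.mp h5
  calc y * u = (u * y * u⁻¹) * u := by rw [h6]
    _ = u * y := by group

/-- If `U` is normal and `U ⊔ ⟨z⟩ = ⊤` then the index of `U` divides the order of `z`. -/
theorem index_dvd_orderOf (U : Subgroup X) [U.Normal] (z : X)
    (h : U ⊔ Subgroup.zpowers z = ⊤) : U.index ∣ orderOf z := by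
  have h1 : U.relIndex (U ⊔ Subgroup.zpowers z) = U.relIndex (Subgroup.zpowers z) :=
    Subgroup.relIndex_sup_left _ _
  rw [h, Subgroup.relIndex_top_right] at h1
  rw [h1, ← Nat.card_zpowers]
  exact Subgroup.relIndex_dvd_card _ _

/-- The structure theorem. -/
theorem exists_structure {r : ℕ} (hpq : p ≠ q) (hr : 1 ≤ r) (hX1 : ¬ Cfsg.HasNormalPComplement p X)
    (hX2 : ∀ K : Subgroup X, K ≠ ⊤ → Cfsg.HasNormalPComplement p K) (t : ℕ)
    (hcard : Nat.card X = p ^ t * q ^ r) :
    ∃ (P : Subgroup X) (y : X) (_ : P.Normal), IsPGroup p P ∧ Nat.card P = p ^ t ∧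
      orderOf y = q ^ r ∧ P ⊔ Subgroup.zpowers y = ⊤ ∧ GoodAut q P (MulAut.conjNormal y) := by
  classical
  have hq1 := hq.out
  have hp1 := hp.out
  have hcop : Nat.Coprime p q := (Nat.coprime_primes hp1 hq1).mpr hpq
  -- Frobenius
  let P₀ : Sylow p X := default
  have hnot : ¬ ∀ Q : Subgroup X, Q ≤ (P₀ : Subgroup X) → ∀ g ∈ Subgroup.normalizer (Q : Set X),
        Nat.Coprime (orderOf g) p → g ∈ Subgroup.centralizer (Q : Set X) := by
    intro h
    obtain ⟨N, hN, hc⟩ := (Cfsg.Agent.Lib.Transfer.Frobenius.exists_normal_complement_iff P₀).mpr h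
    exact hX1 ⟨P₀, N, hN, hc⟩
  push Not at hnot
  obtain ⟨U, hUP, g, hgN, hgc, hgC⟩ := hnot
  have hUp : IsPGroup p U := P₀.isPGroup'.to_le hUP
  have hcomm_not : ¬ ∀ u ∈ U, g * u = u * g := by
    intro h
    apply hgC
    rw [Subgroup.mem_centralizer_iff]
    intro u hu
    exact (h u hu).symm
  have hgU : ∀ u ∈ U, g * u * g⁻¹ ∈ U := fun u hu => (Subgroup.mem_normalizer_iff.mp hgN u).mp hu
  have hUn : U.Normal := by
    apply Subgroup.normalizer_eq_top_iff.mp
    by_contra hne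
    exact hcomm_not (comm_of_proper hX2 U hUp g hgc hgU _ Subgroup.le_normalizer hgN hne)
  have hsup : U ⊔ Subgroup.zpowers g = ⊤ := by
    by_contra hne
    exact hcomm_not (comm_of_proper hX2 U hUp g hgc hgU _ le_sup_left
      (Subgroup.mem_sup_right (Subgroup.mem_zpowers g)) hne)
  have hidx : U.index ∣ orderOf g := index_dvd_orderOf U g hsup
  have hordg : orderOf g ∣ q ^ r := by
    have h1 : orderOf g ∣ p ^ t * q ^ r := hcard ▸ orderOf_dvd_natCard g
    exact (Nat.Coprime.pow_right t hgc).dvd_of_dvd_mul_left h1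
  obtain ⟨s, hs⟩ := IsPGroup.iff_card.mp hUp
  have hmul : U.index * Nat.card U = p ^ t * q ^ r := by rw [Subgroup.index_mul_card, hcard]
  have hidxcop : Nat.Coprime (p ^ t) U.index :=
    Nat.Coprime.coprime_dvd_right (hidx.trans hordg) (Nat.Coprime.pow _ _ hcop)
  have hs1 : p ^ t ∣ p ^ s := by
    have h1 : p ^ t ∣ U.index * p ^ s := by
      rw [← hs, hmul]
      exact Dvd.intro _ rfl
    exact hidxcop.dvd_of_dvd_mul_left h1
  have hs2 : p ^ s ∣ p ^ t := by
    have h1 : p ^ s ∣ p ^ t * q ^ r := by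
      rw [← hmul, hs]
      exact Dvd.intro_left _ rfl
    exact (Nat.Coprime.pow _ _ hcop).dvd_of_dvd_mul_right h1
  have hst : p ^ s = p ^ t := Nat.dvd_antisymm hs2 hs1
  have hUcard : Nat.card U = p ^ t := by rw [hs, hst]
  have hpt : 0 < p ^ t := pow_pos hp1.pos _
  have hidxq : U.index = q ^ r := by
    rw [hUcard, mul_comm (U.index)] at hmul
    exact Nat.eq_of_mul_eq_mul_left hpt hmul
  have hordq : orderOf g = q ^ r := Nat.dvd_antisymm hordg (hidxq ▸ hidx)
  refine ⟨U, g, hUn, hUp, hUcard, hordq, hsup, ?_, ?_, ?_⟩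
  · -- `g ^ q` centralises `U`
    have hgq : ∀ u ∈ U, g ^ q * u = u * g ^ q := by
      apply comm_of_proper hX2 U hUp (g ^ q)
        (Nat.Coprime.coprime_dvd_left (orderOf_pow_dvd q) hgc)
        (fun u hu => hUn.conj_mem u hu _) (U ⊔ Subgroup.zpowers (g ^ q)) le_sup_left
        (Subgroup.mem_sup_right (Subgroup.mem_zpowers _))
      intro htop
      have h1 : U.index ∣ orderOf (g ^ q) := index_dvd_orderOf U (g ^ q) htop
      have h2 : orderOf (g ^ q) ∣ q ^ (r - 1) := by
        apply orderOf_dvd_of_pow_eq_one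
        rw [← pow_mul, ← pow_succ', Nat.sub_add_cancel hr, ← hordq, pow_orderOf_eq_one]
      rw [hidxq] at h1
      have h3 := (Nat.pow_dvd_pow_iff_le_right hq1.one_lt).mp (h1.trans h2)
      omega
    rw [← map_pow]
    apply MulEquiv.ext
    intro u
    apply Subtype.ext
    rw [MulAut.conjNormal_apply, hgq u u.2]
    simp
  · intro h1
    apply hcomm_not
    intro u hu
    have h2 := congrArg (fun φ : MulAut U => ((φ ⟨u, hu⟩ : U) : X)) h1
    simp only [MulAut.conjNormal_apply] at h2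
    have h3 : g * u * g⁻¹ = u := h2
    calc g * u = (g * u * g⁻¹) * g := by group
      _ = u * g := by rw [h3]
  · intro U₁ hU₁ hinv u hu
    let U₂ : Subgroup X := U₁.map U.subtype
    have hU₂le : U₂ ≤ U := Subgroup.map_subtype_le _
    have hU₂p : IsPGroup p U₂ := hUp.to_le hU₂le
    have hgU₂ : ∀ x ∈ U₂, g * x * g⁻¹ ∈ U₂ := by
      rintro _ ⟨v, hv, rfl⟩
      refine ⟨MulAut.conjNormal g v, hinv v hv, ?_⟩
      exact MulAut.conjNormal_apply g v
    have hne : U₂ ⊔ Subgroup.zpowers g ≠ ⊤ := by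
      intro htop
      have hnorm2 : U₂.Normal := by
        apply Subgroup.normalizer_eq_top_iff.mp
        rw [eq_top_iff, ← htop]
        apply sup_le Subgroup.le_normalizer
        rw [Subgroup.zpowers_le]
        exact mem_normalizer_of_conj_le U₂ g hgU₂
      have h2 : U₂.index ∣ orderOf g := index_dvd_orderOf U₂ g htop
      have h3 : U₂.index * Nat.card U₂ = p ^ t * q ^ r := by
        rw [Subgroup.index_mul_card, hcard]
      have h4 : p ^ t ∣ Nat.card U₂ := by
        have h5 : p ^ t ∣ U₂.index * Nat.card U₂ := by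
          rw [h3]
          exact Dvd.intro _ rfl
        have h6 : Nat.Coprime (p ^ t) U₂.index :=
          Nat.Coprime.coprime_dvd_right (h2.trans hordg) (Nat.Coprime.pow _ _ hcop)
        exact h6.dvd_of_dvd_mul_left h5
      have h5 : Nat.card U ≤ Nat.card U₂ := by
        rw [hUcard]
        exact Nat.le_of_dvd Nat.card_pos h4
      have h6 : U₂ = U := Subgroup.eq_of_le_of_card_ge hU₂le h5
      apply hU₁
      rw [eq_top_iff]
      intro v _
      have h7 : (v : X) ∈ U₂ := by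
        rw [h6]
        exact v.2
      obtain ⟨w, hw, hwv⟩ := h7
      have h8 : w = v := Subtype.ext hwv
      rwa [← h8]
    have hcomm2 := comm_of_proper hX2 U₂ hU₂p g hgc hgU₂ _ le_sup_left
      (Subgroup.mem_sup_right (Subgroup.mem_zpowers g)) hne
    apply Subtype.ext
    rw [MulAut.conjNormal_apply, hcomm2 u ⟨u, hu, rfl⟩]
    simp

end Cfsg.Agent.Lib.Schmidt4395
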